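import Cfsg.Agent.Lib.PSolvable.HallHigman
import Cfsg.Agent.Lib.PSolvable.Series
import Cfsg.Agent.Lib.PGroup.Frattini
import Cfsg.Agent.Lib.OddStability.Stable

/-!
# The module attached to the first layer of the upper `p`-series
-/

set_option autoImplicit false

namespace Cfsg.Agent.Lib.HallHigmanB

open Subgroup Cfsg
open scoped commutatorElement
open Cfsg.Agent.Lib.PSolvable

theorem pLengthLE_succ_of_map {G H : Type*} [Group G] [Finite G] [Group H] {p k : ℕ} {f : G →* H}
    (hf : Function.Surjective f) (hker : f.ker = (upperPSeries p G 2).1) (h : PLengthLE p k H) :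
    PLengthLE p (k + 1) G := by
  unfold PLengthLE at h ⊢
  have h2 := comap_upperPSeries (p := p) hf (by norm_num : Even 2) hker (2 * k + 1)
  rw [h, comap_top] at h2
  rw [show 2 * (k + 1) + 1 = 2 * k + 1 + 2 by ring]
  exact h2.symm

/-- The first layer: a surjection onto a group `G₁` with an elementary abelian normal subgroup `E`
containing its centraliser, and `G₁ ⧸ E = G ⧸ O_{p',p}(G)`. -/
structure IsLayer (p : ℕ) {G G₁ : Type*} [Group G] [Group G₁] (f : G →* G₁) (E : Subgroup G₁) :
    Prop where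
  surj : Function.Surjective f
  comap_eq : E.comap f = (upperPSeries p G 2).1
  normal : E.Normal
  comm : ∀ a ∈ E, ∀ b ∈ E, a * b = b * a
  pow : ∀ a ∈ E, a ^ p = 1
  centralizer_le : centralizer (E : Set G₁) ≤ E

universe u

theorem exists_layer {G : Type u} [Group G] [Finite G] {p : ℕ} [Fact p.Prime]
    (hG : IsPSolvable p G) :
    ∃ (G₁ : Type u) (_ : Group G₁) (_ : Finite G₁) (f : G →* G₁) (E : Subgroup G₁),
      IsLayer p f E := by
  haveI : (pPrimeCore p G).Normal := @normal_of_characteristic _ _ _ pPrimeCore_characteristic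
  set G₀ := G ⧸ pPrimeCore p G
  set P₀ := pCore p G₀ with hP₀
  have hP : IsPGroup p P₀ := pCore_isPGroup
  haveI : P₀.Characteristic := pCore_characteristic
  set N := (frattini P₀).map P₀.subtype with hN
  haveI : N.Normal := by
    haveI : (frattini P₀).Characteristic := frattini_characteristic
    exact ConjAct.normal_of_characteristic_of_normal
  have hNle : N ≤ P₀ := map_subtype_le _
  set π := QuotientGroup.mk' N with hπ
  have hπs : Function.Surjective π := QuotientGroup.mk'_surjective N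
  have hcomap : (P₀.map π).comap π = P₀ := by
    rw [comap_map_eq, QuotientGroup.ker_mk', sup_eq_left.mpr hNle]
  refine ⟨G₀ ⧸ N, inferInstance, inferInstance, π.comp (QuotientGroup.mk' _), P₀.map π,
    hπs.comp (QuotientGroup.mk'_surjective _), ?_, Normal.map inferInstance π hπs, ?_, ?_, ?_⟩
  · rw [← comap_comap, hcomap]
    have h1 : (upperPSeries p G 1).1 = pPrimeCore p G := upperPSeries_one
    obtain ⟨e, he⟩ : ∃ e : G ⧸ (upperPSeries p G 1).1 ≃* G₀,
        ∀ g : G, e (g : G ⧸ (upperPSeries p G 1).1) = (g : G₀) :=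
      ⟨QuotientGroup.quotientMulEquivOfEq h1, fun g => rfl⟩
    rw [upperPSeries_succ_of_odd (n := 1) (by simp)]
    ext g
    simp only [mem_comap, hP₀]
    rw [show QuotientGroup.mk' (pPrimeCore p G) g = (g : G₀) from rfl, QuotientGroup.mk'_apply, ← he g, ← map_pCore_equiv (p := p) e]
    exact mem_map_iff_mem (f := e.toMonoidHom) e.injective
  · rintro _ ⟨a, ha, rfl⟩ _ ⟨b, hb, rfl⟩
    rw [← map_mul, ← map_mul, hπ, QuotientGroup.mk'_apply, QuotientGroup.mk'_apply, QuotientGroup.eq]
    exact ⟨((⟨a, ha⟩ : P₀) * ⟨b, hb⟩)⁻¹ * (⟨b, hb⟩ * ⟨a, ha⟩), Lib.PFrattini.commutator_le_frattini hP (by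
      rw [show ((⟨a, ha⟩ : P₀) * ⟨b, hb⟩)⁻¹ * (⟨b, hb⟩ * ⟨a, ha⟩) =
        ⁅(⟨b, hb⟩ : P₀)⁻¹, (⟨a, ha⟩ : P₀)⁻¹⁆ by rw [commutatorElement_def]; group]
      exact commutator_mem_commutator (mem_top _) (mem_top _)), rfl⟩
  · rintro _ ⟨a, ha, rfl⟩
    rw [← map_pow, hπ, QuotientGroup.mk'_apply, QuotientGroup.eq_one_iff]
    exact ⟨⟨a, ha⟩ ^ p, Lib.PFrattini.pow_mem_frattini hP _, rfl⟩
  · -- the preimage of the centraliser is a normal `p`-subgroup modulo `P₀`
    set C := (centralizer ((P₀.map π : Subgroup (G₀ ⧸ N)) : Set (G₀ ⧸ N))).comap π with hC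
    haveI : (P₀.map π).Normal := Normal.map inferInstance π hπs
    haveI hCn : C.Normal := Normal.comap inferInstance π
    have h0 : pPrimeCore p G₀ = ⊥ := pPrimeCore_quotient_eq_bot
    have hCp : C ≤ P₀ := by
      have hq : (C.map (QuotientGroup.mk' P₀)) ≤ pCore p (G₀ ⧸ P₀) := by
        haveI : (C.map (QuotientGroup.mk' P₀)).Normal :=
          Normal.map hCn _ (QuotientGroup.mk'_surjective _)
        refine le_pCore ?_
        rintro ⟨_, d, hd, rfl⟩
        obtain ⟨k, hk⟩ := OddStability.exists_pow_mem_centralizer_of_frattini hP (d := d)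
          (by rw [normalizer_eq_top_iff.mpr inferInstance]; exact mem_top d) (fun x hx => by
            have h := mem_centralizer_iff.1 (mem_comap.1 hd) (π x) (mem_map_of_mem π hx)
            show _ ∈ N
            rw [← QuotientGroup.ker_mk' N, MonoidHom.mem_ker, ← hπ]
            simp only [map_mul, map_inv]
            rw [← h, mul_inv_cancel_right, mul_inv_cancel])
        refine ⟨k, Subtype.ext ?_⟩
        have h1 : d ^ p ^ k ∈ P₀ :=
          centralizer_pCore_le_of_isPSolvable (isPSolvable_quotient hG _) h0 hk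
        show (QuotientGroup.mk' P₀ d) ^ p ^ k = 1
        rw [← map_pow]
        exact (QuotientGroup.eq_one_iff _).2 h1
      rw [pCore_quotient_eq_bot, le_bot_iff, Subgroup.map_eq_bot_iff, QuotientGroup.ker_mk'] at hq
      exact hq
    intro c hc
    obtain ⟨d, rfl⟩ := hπs c
    exact mem_map_of_mem π (hCp hc)

end Cfsg.Agent.Lib.HallHigmanB
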