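import Cfsg.Agent.Lib.HallHigmanB.Linear
import Cfsg.Agent.Lib.HallHigmanB.Layer
import Cfsg.Agent.Lib.Involves.Basic

/-!
# Elements of the next layer acting on the first layer
-/

set_option autoImplicit false

namespace Cfsg.Agent.Lib.HallHigmanB

open Subgroup Cfsg
open Cfsg.Agent.Lib.PSolvable
open scoped IsMulCommutative

universe u

variable {p : ℕ} [hp : Fact p.Prime]

theorem odd_prime_pow_sub_one {m b : ℕ} (hp2 : p ≠ 2) (hm : 1 ≤ m) (h : p ^ m - 1 = 2 ^ b)
    (hnf : ¬ ∃ k : ℕ, p = 2 ^ k + 1) : False := by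
  have hp' := hp.out
  have hodd : Odd p := hp'.odd_of_ne_two hp2
  have h1 : p ^ m = 2 ^ b + 1 := by
    have := Nat.one_le_pow m p hp'.pos
    omega
  rcases Nat.even_or_odd m with hev | hod
  · obtain ⟨h', rfl⟩ := hev
    rw [← two_mul, pow_mul'] at h1
    set x := p ^ h' with hx
    have hx3 : 3 ≤ x := le_trans (show 3 ≤ p by have := hp'.two_le; omega)
      (Nat.le_self_pow (by omega) p)
    have h2 : (x - 1) * (x + 1) = 2 ^ b := by
      have : x * x = 2 ^ b + 1 := by rw [← h1, sq]
      obtain ⟨y, hy⟩ : ∃ y, x = y + 1 := ⟨x - 1, by omega⟩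
      rw [hy] at this ⊢
      simp only [Nat.add_sub_cancel]
      nlinarith
    obtain ⟨i, -, hi⟩ := (Nat.dvd_prime_pow Nat.prime_two).1 (Dvd.intro _ h2)
    obtain ⟨j, -, hj⟩ := (Nat.dvd_prime_pow Nat.prime_two).1 (Dvd.intro_left _ h2)
    have hi1 : 1 ≤ i := by
      by_contra h0
      rw [show i = 0 by omega, pow_zero] at hi
      omega
    by_cases hi2 : i = 1
    · subst hi2
      have hx' : p ^ h' = 3 := by omega
      have : p = 3 := by
        have hd : p ∣ 3 := hx' ▸ dvd_pow_self p (by omega)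
        rcases (Nat.dvd_prime Nat.prime_three).1 hd with e | e
        · exact absurd e hp'.one_lt.ne'
        · exact e
      exact hnf ⟨1, by omega⟩
    · have h4 : 4 ∣ x - 1 := hi ▸ (show 4 ∣ 2 ^ i from pow_dvd_pow (m := 2) 2 (by omega))
      have hj3 : 3 ≤ j := by
        by_contra h0
        have : 2 ^ j ≤ 2 ^ 2 := Nat.pow_le_pow_right (by norm_num) (by omega)
        omega
      have h5 : 4 ∣ x + 1 := hj ▸ (show 4 ∣ 2 ^ j from pow_dvd_pow (m := 2) 2 (by omega))
      omega
  · have hgeom : (∑ i ∈ Finset.range m, p ^ i) * (p - 1) = 2 ^ b := by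
      have := geom_sum_mul_of_one_le (x := p) hp'.one_le m
      rw [this]; exact h
    have hoddsum : Odd (∑ i ∈ Finset.range m, p ^ i) := by
      rw [Finset.odd_sum_iff_odd_card_odd, Finset.filter_true_of_mem (fun i _ => hodd.pow),
        Finset.card_range]
      exact hod
    obtain ⟨i, -, hi⟩ := (Nat.dvd_prime_pow Nat.prime_two).1 (Dvd.intro _ hgeom)
    have hi0 : i = 0 := by
      by_contra h0
      rw [hi] at hoddsum
      exact (Nat.not_even_iff_odd.2 hoddsum) (Nat.even_pow.2 ⟨even_two, h0⟩)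
    have hm1 : m = 1 := by
      by_contra hne
      rw [hi0, pow_zero] at hi
      have h2 : 1 + p ≤ ∑ i ∈ Finset.range m, p ^ i := by
        calc 1 + p = ∑ i ∈ Finset.range 2, p ^ i := by simp [Finset.sum_range_succ]
          _ ≤ _ := Finset.sum_le_sum_of_subset (Finset.range_subset_range.2 (by omega))
      have := hp'.two_le
      omega
    subst hm1
    exact hnf ⟨b, by simpa using h1⟩

variable {G₁ : Type u} [Group G₁] [Finite G₁] {E : Subgroup G₁} [E.Normal]

/-- The product of the conjugates `g ^ i e g ^ (-i)`. -/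
theorem mul_pow_eq (hEc : ∀ a ∈ E, ∀ b ∈ E, a * b = b * a) :
    haveI : IsMulCommutative E := ⟨⟨fun a b => Subtype.ext (hEc a a.2 b b.2)⟩⟩
    ∀ (e : E) (g : G₁) (N : ℕ),
      ((e : G₁) * g) ^ N = ((∏ i ∈ Finset.range N, MulAut.conjNormal (g ^ i) e : E) : G₁) * g ^ N := by
  haveI : IsMulCommutative E := ⟨⟨fun a b => Subtype.ext (hEc a a.2 b b.2)⟩⟩
  intro e g N
  induction N with
  | zero => simp
  | succ N ih =>
    rw [pow_succ, ih, Finset.prod_range_succ, coe_mul, MulAut.conjNormal_apply, pow_succ]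
    group

/-- The dichotomy for a faithful action on an elementary abelian `p`-group. -/
theorem exceptional_or_exists_action {A : Type*} [CommGroup A] [Finite A] (hA : ∀ a : A, a ^ p = 1)
    (φ : G₁ →* MulAut A) (hφ : φ.ker = E) (hsol : IsPSolvable p (G₁ ⧸ E))
    (hOp : pCore p (G₁ ⧸ E) = ⊥) {g : G₁} {n : ℕ} (hn : 1 ≤ n)
    (hg : orderOf (g : G₁ ⧸ E) = p ^ n) :
    (∃ a : A, ∏ i ∈ Finset.range (p ^ n), φ (g ^ i) a ≠ 1 ∧
      ∀ c : Fin (p ^ n) → ℕ, ∏ i : Fin (p ^ n), φ (g ^ (i : ℕ)) a ^ c i = 1 → ∀ i, p ∣ c i) ∨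
      Exceptional (G := G₁ ⧸ E) p n (p ^ n - 1) := by
  classical
  have hp' := hp.out
  haveI : Module (ZMod p) (Additive A) := AddCommGroup.zmodModule fun v => by
    apply Additive.toMul.injective
    rw [toMul_nsmul, toMul_zero]
    exact hA _
  haveI : FiniteDimensional (ZMod p) (Additive A) := Module.Finite.of_finite
  let ρ : G₁ →* Module.End (ZMod p) (Additive A) :=
    { toFun := fun x => AddMonoidHom.toZModLinearMap p
        { toFun := fun v => Additive.ofMul (φ x (Additive.toMul v))
          map_zero' := by simp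
          map_add' := fun a b => by simp }
      map_one' := by
        refine LinearMap.ext fun v => ?_
        simp
      map_mul' := fun a b => by
        refine LinearMap.ext fun v => ?_
        simp }
  have hρ : ∀ (x : G₁) (e : A), ρ x (Additive.ofMul e) = Additive.ofMul (φ x e) :=
    fun x e => rfl
  have hker : E = ρ.ker := by
    rw [← hφ]
    ext x
    rw [MonoidHom.mem_ker, MonoidHom.mem_ker]
    constructor
    · intro hx
      refine LinearMap.ext fun v => ?_
      show Additive.ofMul (φ x (Additive.toMul v)) = v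
      rw [hx]
      rfl
    · intro hx
      refine MulEquiv.ext fun a => ?_
      exact congrArg Additive.toMul (LinearMap.congr_fun hx (Additive.ofMul a))
  set ρ' : G₁ ⧸ E →* Module.End (ZMod p) (Additive A) := QuotientGroup.lift E ρ hker.le with hρ'
  have hinj : Function.Injective ρ' := by
    rw [injective_iff_map_eq_one]
    intro z hz
    obtain ⟨x, rfl⟩ := QuotientGroup.mk_surjective z
    rw [QuotientGroup.eq_one_iff, hker, MonoidHom.mem_ker]
    exact hz
  by_cases hz : (ρ' (g : G₁ ⧸ E) - 1) ^ (p ^ n - 1) = 0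
  · rcases bound_linear hsol hOp ρ' hinj hn hg hz with h | h
    · have := Nat.one_le_pow n p hp'.pos
      omega
    · exact Or.inr h
  left
  obtain ⟨v, hv⟩ : ∃ v, ((ρ g - 1) ^ (p ^ n - 1)) v ≠ 0 :=
    not_forall.1 fun h => hz (LinearMap.ext h)
  set Z := ρ g - 1 with hZ
  set e : A := Additive.toMul v with he
  have hsum : ∀ w, (Z ^ (p ^ n - 1)) w = ∑ i ∈ Finset.range (p ^ n), ρ (g ^ i) w := fun w => by
    rw [hZ, sub_one_pow_pPow_sub_one, LinearMap.coe_sum, Finset.sum_apply]
    exact Finset.sum_congr rfl fun i _ => by rw [map_pow]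
  refine ⟨e, fun heq => hv ?_, fun c hc i => ?_⟩
  · rw [hsum]
    have : (∏ i ∈ Finset.range (p ^ n), φ (g ^ i) e : A) = 1 := heq
    rw [show v = Additive.ofMul e from rfl]
    simp only [hρ]
    rw [← ofMul_prod, this]
    rfl
  · -- linear independence of the cyclic module
    have hlin : ∑ j : Fin (p ^ n), (c j : ZMod p) • ρ (g ^ (j : ℕ)) v = 0 := by
      have h1 : (∏ j : Fin (p ^ n), (φ (g ^ (j : ℕ)) e) ^ c j : A) = 1 := hc
      have h2 := congrArg Additive.ofMul h1
      rw [ofMul_prod] at h2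
      refine Eq.trans (Finset.sum_congr rfl fun j _ => ?_) h2
      rw [Nat.cast_smul_eq_nsmul, ofMul_pow]
      rfl
    by_contra hci
    obtain ⟨i₀, hi₀, hmin⟩ := Finset.exists_min_image
      (Finset.univ.filter fun j => ¬ (p ∣ c j)) (fun j : Fin (p ^ n) => (j : ℕ))
      ⟨i, by simpa using hci⟩
    -- the polynomial `∑ c j X ^ j` kills a vector of maximal height
    obtain ⟨P, hP, hP0⟩ : ∃ P : Polynomial (ZMod p), Polynomial.aeval (ρ g) P v = 0 ∧
        (P.coeff i₀ ≠ 0 ∧ P.natDegree < p ^ n) := by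
      refine ⟨∑ j : Fin (p ^ n), Polynomial.monomial (j : ℕ) (c j : ZMod p), ?_, ?_, ?_⟩
      · rw [map_sum, LinearMap.coe_sum, Finset.sum_apply, ← hlin]
        exact Finset.sum_congr rfl fun j _ => by
          rw [Polynomial.aeval_monomial, Algebra.algebraMap_eq_smul_one, smul_mul_assoc, one_mul,
            LinearMap.smul_apply, map_pow]
      · simp only [Finset.mem_filter, Finset.mem_univ, true_and] at hi₀
        rw [Polynomial.finsetSum_coeff, Finset.sum_eq_single i₀]
        · rw [Polynomial.coeff_monomial, if_pos rfl, Ne, CharP.cast_eq_zero_iff (ZMod p) p]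
          exact hi₀
        · intro j _ hj
          rw [Polynomial.coeff_monomial, if_neg fun h => hj (Fin.ext h)]
        · simp
      · refine lt_of_le_of_lt (Polynomial.natDegree_sum_le_of_forall_le (n := p ^ n - 1) _ _
          fun j _ => (Polynomial.natDegree_monomial_le _).trans (by have := j.2; omega)) ?_
        have := Nat.one_le_pow n p hp'.pos
        omega
    have hPne : P ≠ 0 := fun h => hP0.1 (by rw [h, Polynomial.coeff_zero])
    obtain ⟨R, hR, hR0⟩ := Polynomial.exists_eq_pow_rootMultiplicity_mul_and_not_dvd P hPne 1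
    set k := P.rootMultiplicity 1
    have hk : k < p ^ n := lt_of_le_of_lt (by
      have h1 := congrArg Polynomial.natDegree hR
      rw [Polynomial.natDegree_mul (pow_ne_zero _ (Polynomial.X_sub_C_ne_zero 1))
        (fun h => hR0 (by rw [h]; exact dvd_zero _)), Polynomial.natDegree_pow, Polynomial.natDegree_X_sub_C,
        mul_one] at h1
      omega) hP0.2
    apply hv
    have hN0 : Polynomial.aeval (ρ g) (((Polynomial.X : Polynomial (ZMod p)) - 1) ^ p ^ n) = 0 := by
      rw [map_pow, map_sub, Polynomial.aeval_X, map_one, sub_one_pow_pPow,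
        ← map_pow, sub_eq_zero]
      have : g ^ p ^ n ∈ E := by
        rw [← QuotientGroup.eq_one_iff, QuotientGroup.mk_pow, ← hg, pow_orderOf_eq_one]
      rwa [hker, MonoidHom.mem_ker] at this
    -- `R` is invertible on the module
    obtain ⟨U, W, hUW⟩ := ((Polynomial.prime_X_sub_C (1 : ZMod p)).irreducible.coprime_iff_not_dvd.2
      hR0).pow_left (m := p ^ n)
    have h1 := congrArg (fun F => Polynomial.aeval (ρ g) F ((Z ^ k) v)) hUW
    simp only [map_add, map_mul, Polynomial.C_1, hN0, mul_zero, zero_add, map_one, Module.End.mul_apply,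
      Module.End.one_apply] at h1
    have hcomm : Polynomial.aeval (ρ g) R ((Z ^ k) v) = Polynomial.aeval (ρ g) P v := by
      rw [← Module.End.mul_apply, hZ, hR, map_mul, map_pow, map_sub, Polynomial.aeval_X,
        Polynomial.C_1, map_one]
      congr 1
      exact ((Commute.sub_left (Polynomial.commute_X R |>.map (Polynomial.aeval (ρ g)) |> fun h => by
        simpa using h) (Commute.one_left _)).pow_left k).eq.symm
    rw [hcomm, hP, map_zero] at h1
    rw [show p ^ n - 1 = (p ^ n - 1 - k) + k by omega, pow_add, Module.End.mul_apply, ← h1, map_zero]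

/-- The key dichotomy: either some translate `e * g` has a different `p ^ n`-th power, or the
exceptional configuration occurs in `G₁ ⧸ E`. -/
theorem exceptional_or_exists (hEc : ∀ a ∈ E, ∀ b ∈ E, a * b = b * a) (hEp : ∀ a ∈ E, a ^ p = 1)
    (hCE : centralizer (E : Set G₁) ≤ E) (hsol : IsPSolvable p (G₁ ⧸ E))
    (hOp : pCore p (G₁ ⧸ E) = ⊥) {g : G₁} {n : ℕ} (hn : 1 ≤ n)
    (hg : orderOf (g : G₁ ⧸ E) = p ^ n) :
    (∃ e ∈ E, (e * g) ^ p ^ n ≠ g ^ p ^ n ∧
      ∀ c : Fin (p ^ n) → ℕ, (List.ofFn fun i : Fin (p ^ n) => (g ^ (i : ℕ) * e * (g ^ (i : ℕ))⁻¹) ^ c i).prod = 1 →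
        ∀ i, p ∣ c i) ∨
      Exceptional (G := G₁ ⧸ E) p n (p ^ n - 1) := by
  haveI : IsMulCommutative E := ⟨⟨fun a b => Subtype.ext (hEc a a.2 b b.2)⟩⟩
  have hker : (MulAut.conjNormal : G₁ →* MulAut E).ker = E := by
    ext x
    rw [MonoidHom.mem_ker]
    constructor
    · intro hx
      refine hCE (mem_centralizer_iff.2 fun e he => ?_)
      have h := congrArg Subtype.val (DFunLike.congr_fun hx (⟨e, he⟩ : E))
      rw [MulAut.conjNormal_apply, MulAut.one_apply] at h
      exact (mul_inv_eq_iff_eq_mul.1 h).symm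
    · intro hx
      refine MulEquiv.ext fun e => Subtype.ext ?_
      rw [MulAut.conjNormal_apply, MulAut.one_apply, hEc x hx _ e.2, mul_inv_cancel_right]
  refine (exceptional_or_exists_action (fun a => Subtype.ext (hEp a a.2)) _ hker hsol hOp hn hg).imp_left ?_
  rintro ⟨a, ha, hc⟩
  refine ⟨a, a.2, fun heq => ha (Subtype.ext ?_), fun c h => hc c (Subtype.ext ?_)⟩
  · rw [mul_pow_eq hEc, mul_eq_right] at heq
    exact heq
  · rw [← List.prod_ofFn, SubmonoidClass.coe_list_prod, List.map_ofFn, OneMemClass.coe_one, ← h]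
    congr 1

end Cfsg.Agent.Lib.HallHigmanB
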