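import Cfsg.Agent.Lib.HallHigmanB.Step
import Cfsg.Agent.Lib.PLengthBound.Basic

/-!
# Exponent and `p`-length
-/

set_option autoImplicit false

namespace Cfsg.Agent.Lib.HallHigmanB

open Subgroup Cfsg
open Cfsg.Agent.Lib.PSolvable

universe u

variable {p : ℕ} [hp : Fact p.Prime]

theorem IsLayer.ker_eq {G G₁ : Type*} [Group G] [Group G₁] {f : G →* G₁} {E : Subgroup G₁}
    [E.Normal] (h : IsLayer p f E) :
    ((QuotientGroup.mk' E).comp f).ker = (upperPSeries p G 2).1 := by
  rw [← MonoidHom.comap_ker, QuotientGroup.ker_mk', h.comap_eq]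

theorem IsLayer.pCore_eq_bot {G G₁ : Type*} [Group G] [Finite G] [Group G₁] [Finite G₁]
    {f : G →* G₁} {E : Subgroup G₁} [E.Normal] (h : IsLayer p f E) :
    pCore p (G₁ ⧸ E) = ⊥ := by
  set F := (QuotientGroup.mk' E).comp f with hF
  have hFs : Function.Surjective F := (QuotientGroup.mk'_surjective E).comp h.surj
  set B := (pCore p (G₁ ⧸ E)).comap F with hB
  haveI : B.Normal := Normal.comap inferInstance F
  have hUB : (upperPSeries p G 2).1 ≤ B := by
    rw [← h.ker_eq]; exact MonoidHom.ker_le_comap _ _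
  obtain ⟨m, hm⟩ := PLengthBound.relIndex_upperPSeries_odd (p := p) (G := G) (n := 1) (by simp)
  obtain ⟨k, hk⟩ := (pCore_isPGroup (p := p) (G := G₁ ⧸ E)).exists_card_eq
  have h2 : (upperPSeries p G 2).1.relIndex B = p ^ k := by
    rw [← h.ker_eq, relIndex_ker, hB, map_comap_eq_self_of_surjective hFs, hk]
  have h12 : (upperPSeries p G 1).1 ≤ (upperPSeries p G 2).1 := upperPSeries_mono (by norm_num)
  have h3 : (upperPSeries p G 1).1.relIndex B = p ^ (m + k) := by
    rw [← relIndex_mul_relIndex _ _ _ h12 hUB, hm, h2, pow_add]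
  have h4 := PLengthBound.le_succ_of_pow (A := (upperPSeries p G 1).1) (B := B) (k := 0) le_rfl h3
  rw [eq_bot_iff]
  intro z hz
  obtain ⟨g, rfl⟩ := hFs z
  have : g ∈ F.ker := h.ker_eq.ge (h4 hz)
  exact this

theorem IsLayer.le_sylow {G G₁ : Type*} [Group G] [Finite G] [Group G₁] [Finite G₁]
    {f : G →* G₁} {E : Subgroup G₁} (h : IsLayer p f E) (S : Sylow p G₁) :
    E ≤ (S : Subgroup G₁) := by
  haveI := h.normal
  have hE : IsPGroup p E := fun a => ⟨1, Subtype.ext (by simpa using h.pow a a.2)⟩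
  exact hE.le_sylow_of_normal S

theorem pLengthLE_of_exponent : ∀ (e : ℕ) {G : Type u} [Group G] [Finite G], IsPSolvable p G →
    (∀ (P : Sylow p G), ∀ x ∈ (P : Subgroup G), x ^ p ^ e = 1) →
    (∀ m q b : ℕ, 1 ≤ m → q.Prime → 1 ≤ b → p ^ m - 1 = q ^ b →
      ∃ Q : Sylow q G, IsMulCommutative (Q : Subgroup G)) →
    PLengthLE p e G := by
  intro e
  induction e with
  | zero =>
    intro G _ _ _ hexp _
    refine pLengthLE_zero_of_coprime ?_
    obtain ⟨P⟩ : Nonempty (Sylow p G) := inferInstance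
    have hP : (P : Subgroup G) = ⊥ := by
      rw [eq_bot_iff]
      intro x hx
      simpa using hexp P x hx
    have h2 : ¬ p ∣ Nat.card G := by
      have h3 := P.not_dvd_index
      rwa [hP, index_bot] at h3
    exact ((Fact.out : p.Prime).coprime_iff_not_dvd.mpr h2).symm
  | succ e ih =>
    intro G _ _ hG hexp hq
    obtain ⟨G₁, _, _, f, E, hL⟩ := exists_layer (p := p) hG
    haveI := hL.normal
    set F := (QuotientGroup.mk' E).comp f with hF
    have hFs : Function.Surjective F := (QuotientGroup.mk'_surjective E).comp hL.surj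
    have hG₁ : IsPSolvable p G₁ := isPSolvable_map hG f hL.surj
    have hH : IsPSolvable p (G₁ ⧸ E) := isPSolvable_quotient hG₁ E
    refine pLengthLE_succ_of_map hFs hL.ker_eq (ih hH ?_ ?_)
    · intro T x hx
      obtain ⟨S, rfl⟩ := Sylow.mapSurjective_surjective hFs p T
      rw [Sylow.coe_mapSurjective] at hx
      obtain ⟨s, hs, rfl⟩ := hx
      have hdvd : orderOf (F s) ∣ p ^ (e + 1) := orderOf_dvd_of_pow_eq_one (by
        rw [← map_pow, hexp S s hs, map_one])
      obtain ⟨n, hn, hord⟩ := (Nat.dvd_prime_pow hp.out).1 hdvd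
      rw [← orderOf_dvd_iff_pow_eq_one, hord]
      apply pow_dvd_pow
      by_contra hne
      obtain rfl : n = e + 1 := by omega
      rcases exceptional_or_exists (g := f s) hL.comm hL.pow hL.centralizer_le hH hL.pCore_eq_bot
        (Nat.le_add_left 1 e) hord with ⟨a, ha, hne', -⟩ | ⟨a, m, q, b, -, hm, hqp, hb, hpm, -, hQ⟩
      · apply hne'
        have hmem : ∀ y ∈ ((S.mapSurjective hL.surj : Sylow p G₁) : Subgroup G₁),
            y ^ p ^ (e + 1) = 1 := by
          intro y hy
          rw [Sylow.coe_mapSurjective] at hy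
          obtain ⟨t, ht, rfl⟩ := hy
          rw [← map_pow, hexp S t ht, map_one]
        have hs' : f s ∈ ((S.mapSurjective hL.surj : Sylow p G₁) : Subgroup G₁) := by
          rw [Sylow.coe_mapSurjective]; exact mem_map_of_mem f hs
        rw [hmem _ (mul_mem (hL.le_sylow _ ha) hs'), hmem _ hs']
      · obtain ⟨Q, hQc⟩ := hq m q b hm hqp hb hpm
        haveI := Fact.mk hqp
        haveI := hQc
        refine hQ (Q.mapSurjective hFs) ?_
        rw [Sylow.coe_mapSurjective]
        infer_instance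
    · intro m q b hm hqp hb hpm
      obtain ⟨Q, hQc⟩ := hq m q b hm hqp hb hpm
      haveI := Fact.mk hqp
      haveI := hQc
      refine ⟨Q.mapSurjective hFs, ?_⟩
      rw [Sylow.coe_mapSurjective]
      infer_instance

/-- If the exceptional primes do not occur and no translate has a cyclic module, the length is one. -/
theorem exists_free_cycle {G : Type u} [Group G] [Finite G] (hG : IsPSolvable p G)
    (hnot : ¬ PLengthLE p 1 G) (P : Sylow p G)
    (hq : ∀ q b : ℕ, q.Prime → 1 ≤ b → p - 1 = q ^ b →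
      ∃ Q : Sylow q G, IsMulCommutative (Q : Subgroup G)) :
    ∃ (G₁ : Type u) (_ : Group G₁) (_ : Finite G₁) (f : G →* G₁) (E : Subgroup G₁) (g e : G₁),
      (∀ a ∈ E, ∀ b ∈ E, a * b = b * a) ∧ (∀ a ∈ E, a ^ p = 1) ∧ E.Normal ∧
      E ≤ (P : Subgroup G).map f ∧ g ∈ (P : Subgroup G).map f ∧ g ∉ E ∧ g ^ p ∈ E ∧ e ∈ E ∧
      (e * g) ^ p ≠ g ^ p ∧
      ∀ c : Fin p → ℕ,
        (List.ofFn fun i : Fin p => (g ^ (i : ℕ) * e * (g ^ (i : ℕ))⁻¹) ^ c i).prod = 1 →
          ∀ i, p ∣ c i := by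
  obtain ⟨G₁, hG1, hf1, f, E, hL⟩ := exists_layer (p := p) hG
  haveI := hL.normal
  set F := (QuotientGroup.mk' E).comp f with hF
  have hFs : Function.Surjective F := (QuotientGroup.mk'_surjective E).comp hL.surj
  have hG₁ : IsPSolvable p G₁ := isPSolvable_map hG f hL.surj
  have hH : IsPSolvable p (G₁ ⧸ E) := isPSolvable_quotient hG₁ E
  have hdvd : p ∣ Nat.card (P.mapSurjective hFs : Subgroup (G₁ ⧸ E)) := by
    by_contra hnd
    refine hnot (pLengthLE_succ_of_map hFs hL.ker_eq (pLengthLE_zero_of_coprime ?_))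
    have h1 := (P.mapSurjective hFs).not_dvd_index
    have h2 : ¬ p ∣ Nat.card (G₁ ⧸ E) := by
      rw [← card_mul_index (P.mapSurjective hFs : Subgroup (G₁ ⧸ E))]
      exact fun h => (hp.out.dvd_mul.1 h).elim hnd h1
    exact (hp.out.coprime_iff_not_dvd.2 h2).symm
  obtain ⟨⟨z, hz⟩, hzo⟩ := exists_prime_orderOf_dvd_card' p hdvd
  rw [orderOf_mk] at hzo
  rw [Sylow.coe_mapSurjective] at hz
  obtain ⟨s, hs, rfl⟩ := hz
  set g := f s with hg
  have hord : orderOf (g : G₁ ⧸ E) = p ^ 1 := by rw [pow_one]; exact hzo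
  have hgE : g ∉ E := fun h => by
    rw [(QuotientGroup.eq_one_iff g).2 h, orderOf_one, pow_one] at hord
    exact hp.out.one_lt.ne hord
  have hgp : g ^ p ∈ E := by
    rw [← QuotientGroup.eq_one_iff, QuotientGroup.mk_pow, ← pow_one p, ← hord, pow_orderOf_eq_one]
  have hEP : E ≤ (P : Subgroup G).map f := by
    have := hL.le_sylow (P.mapSurjective hL.surj)
    rwa [Sylow.coe_mapSurjective] at this
  rcases exceptional_or_exists (g := g) hL.comm hL.pow hL.centralizer_le hH hL.pCore_eq_bot le_rfl hord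
    with ⟨a, ha, hne', hind⟩ | ⟨a, m, q, b, ham, hm, hqp, hb, hpm, -, hQ⟩
  · rw [pow_one] at hne'
    refine ⟨G₁, hG1, hf1, f, E, g, a, hL.comm, hL.pow, hL.normal, hEP, mem_map_of_mem f hs, hgE,
      hgp, ha, hne', fun c hc i => ?_⟩
    have e1 : p ^ 1 = p := pow_one p
    have := hind (fun i => c (Fin.cast e1 i)) (by
      rw [List.ofFn_congr e1]
      exact hc) (Fin.cast e1.symm i)
    simpa using this
  · exfalso
    obtain rfl : m = 1 := by omega
    rw [pow_one] at hpm
    obtain ⟨Q, hQc⟩ := hq q b hqp hb hpm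
    haveI := Fact.mk hqp
    haveI := hQc
    refine hQ (Q.mapSurjective hFs) ?_
    rw [Sylow.coe_mapSurjective]
    infer_instance

end Cfsg.Agent.Lib.HallHigmanB
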