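import Mathlib

/-!
# Averaging over an irreducible representation in coprime characteristic

For an irreducible representation `σ` of a finite group `Q` on `U` and an endomorphism `A` of finite order `N`
inducing an automorphism `θ` of `Q` which moves every non-scalar element regularly, every endomorphism commuting
with `A` is a scalar plus a trace `∑ k, A ^ k * F * A⁻¹ ^ k`.
-/

set_option autoImplicit false

namespace Cfsg.Agent.Lib.HallHigmanB

open Module LinearMap

variable {K U Q : Type*} [Field K] [AddCommGroup U] [Module K U] [Group Q]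

/-- No proper nonzero invariant subspace. -/
def IsIrred (σ : Q →* Module.End K U) : Prop :=
  ∀ W : Submodule K U, (∀ g, ∀ w ∈ W, σ g w ∈ W) → W = ⊥ ∨ W = ⊤

/-- Schur's lemma. -/
theorem IsIrred.exists_scalar [IsAlgClosed K] [FiniteDimensional K U] [Nontrivial U]
    {σ : Q →* Module.End K U} (h : IsIrred σ) (L : Module.End K U)
    (hL : ∀ g, L * σ g = σ g * L) : ∃ c : K, L = c • 1 := by
  obtain ⟨c, hc⟩ := Module.End.exists_eigenvalue L
  refine ⟨c, ?_⟩
  rcases h (Module.End.eigenspace L c) (fun g w hw => by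
    rw [Module.End.mem_eigenspace_iff] at hw ⊢
    rw [← Module.End.mul_apply, hL, Module.End.mul_apply, hw, map_smul]) with h0 | h0
  · exact absurd h0 hc
  · ext u
    have hu : u ∈ Module.End.eigenspace L c := h0 ▸ Submodule.mem_top
    simpa [Module.End.mem_eigenspace_iff] using hu

variable [Fintype Q] [FiniteDimensional K U] [IsAlgClosed K] [Nontrivial U]

theorem sum_conj_commute (σ : Q →* Module.End K U) (f : Module.End K U) (h : Q) :
    (∑ g, σ g * f * σ g⁻¹) * σ h = σ h * ∑ g, σ g * f * σ g⁻¹ := by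
  rw [Finset.sum_mul, Finset.mul_sum]
  symm
  refine Fintype.sum_equiv (Equiv.mulLeft h) _ _ fun g => ?_
  simp only [Equiv.coe_mulLeft, map_mul, mul_inv_rev, mul_assoc, ← map_mul σ h⁻¹ h, inv_mul_cancel,
    map_one, mul_one]

theorem finrank_ne_zero (σ : Q →* Module.End K U) (hσ : IsIrred σ) (hQ : (Fintype.card Q : K) ≠ 0) :
    (finrank K U : K) ≠ 0 := by
  obtain ⟨v, hv⟩ := exists_ne (0 : U)
  obtain ⟨φ, hφ⟩ : ∃ φ : U →ₗ[K] K, φ v = 1 := by
    obtain ⟨φ, hφ⟩ := Module.Projective.exists_dual_ne_zero K hv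
    exact ⟨(φ v)⁻¹ • φ, by simp [hφ]⟩
  obtain ⟨c, hc⟩ := hσ.exists_scalar _ (sum_conj_commute σ (φ.smulRight v))
  intro h0
  apply hQ
  have h1 := congrArg (LinearMap.trace K U) hc
  rw [map_smul, LinearMap.trace_one, h0, smul_zero, map_sum] at h1
  have h2 : ∀ g : Q, LinearMap.trace K U (σ g * φ.smulRight v * σ g⁻¹) = 1 := fun g => by
    rw [LinearMap.trace_mul_comm, ← mul_assoc, ← map_mul, inv_mul_cancel, map_one, one_mul,
      LinearMap.trace_smulRight, hφ]
  simpa [h2] using h1

/-- The orthogonality relation, as an inversion formula. -/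
theorem sum_trace_smul (σ : Q →* Module.End K U) (hσ : IsIrred σ) (hQ : (Fintype.card Q : K) ≠ 0)
    (h : Module.End K U) :
    (∑ g, LinearMap.trace K U (σ g⁻¹ * h) • σ g) =
      ((Fintype.card Q : K) / (finrank K U : K)) • h := by
  classical
  have hd := finrank_ne_zero σ hσ hQ
  have key : ∀ (φ : U →ₗ[K] K) (v u : U),
      (∑ g, φ (σ g⁻¹ u) • σ g v) = ((Fintype.card Q : K) / (finrank K U : K) * φ v) • u := by
    intro φ v u
    obtain ⟨c, hc⟩ := hσ.exists_scalar _ (sum_conj_commute σ (φ.smulRight v))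
    have h1 := congrArg (LinearMap.trace K U) hc
    rw [map_smul, LinearMap.trace_one, map_sum] at h1
    have h2 : ∀ g : Q, LinearMap.trace K U (σ g * φ.smulRight v * σ g⁻¹) = φ v := fun g => by
      rw [LinearMap.trace_mul_comm, ← mul_assoc, ← map_mul, inv_mul_cancel, map_one, one_mul,
        LinearMap.trace_smulRight]
    rw [Finset.sum_congr rfl fun g _ => h2 g, Finset.sum_const, Finset.card_univ, nsmul_eq_mul,
      smul_eq_mul] at h1
    have h3 : c = (Fintype.card Q : K) / (finrank K U : K) * φ v := by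
      field_simp
      linear_combination -h1
    have h4 := LinearMap.congr_fun hc u
    simpa [h3, Module.End.mul_apply] using h4
  let b := Module.finBasis K U
  ext v
  have htr : ∀ g : Q, LinearMap.trace K U (σ g⁻¹ * h) = ∑ i, b.coord i (σ g⁻¹ (h (b i))) := fun g => by
    rw [LinearMap.trace_eq_matrix_trace K b, Matrix.trace]
    simp [LinearMap.toMatrix_apply]
  simp only [LinearMap.coe_sum, Finset.sum_apply, LinearMap.smul_apply, htr, Finset.sum_smul]
  rw [Finset.sum_comm, Finset.sum_congr rfl fun i _ => key (b.coord i) v (h (b i))]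
  simp only [mul_smul, ← Finset.smul_sum, Basis.coord_apply, ← map_smul, ← map_sum, b.sum_repr]

variable {A : Module.End K U} {N : ℕ} {θ : MulAut Q}

omit [Fintype Q] [FiniteDimensional K U] [IsAlgClosed K] [Nontrivial U] in
theorem pow_mul_sigma {σ : Q →* Module.End K U} (hA : ∀ g, A * σ g = σ (θ g) * A) (k : ℕ) (g : Q) :
    A ^ k * σ g = σ ((θ ^ k) g) * A ^ k := by
  induction k generalizing g with
  | zero => simp
  | succ k ih =>
    rw [pow_succ, mul_assoc, hA, ← mul_assoc, ih, mul_assoc, pow_succ, MulAut.mul_apply]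

/-- Every endomorphism commuting with `A` is a scalar plus a trace. -/
theorem exists_scalar_add_trace {σ : Q →* Module.End K U} (hσ : IsIrred σ)
    (hQ : (Fintype.card Q : K) ≠ 0) (hN : 0 < N) (hA : ∀ g, A * σ g = σ (θ g) * A)
    (hAN : A ^ N = 1) (hθN : θ ^ N = 1)
    (hfree : ∀ g, (∀ c : K, σ g ≠ c • 1) → ∀ k, 0 < k → k < N → (θ ^ k) g ≠ g)
    (h : Module.End K U) (hh : A * h = h * A) :
    ∃ (a : K) (F : Module.End K U), h = a • 1 + ∑ k ∈ Finset.range N, A ^ k * F * A ^ (N - k) := by
  classical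
  set c : Q → K := fun g => LinearMap.trace K U (σ g⁻¹ * h) with hc
  have hpowN : ∀ k ≤ N, A ^ k * A ^ (N - k) = 1 := fun k hk => by
    rw [← pow_add, Nat.add_sub_cancel' hk, hAN]
  have hpowN' : ∀ k ≤ N, A ^ (N - k) * A ^ k = 1 := fun k hk => by
    rw [← pow_add, Nat.sub_add_cancel hk, hAN]
  have hcinv : ∀ (k : ℕ) (g : Q), c ((θ ^ k) g) = c g := by
    intro k
    induction k with
    | zero => simp
    | succ k ih =>
      intro g
      rw [pow_succ', MulAut.mul_apply, ← ih g]
      simp only [hc]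
      have h1 : σ (θ ((θ ^ k) g))⁻¹ = A * σ ((θ ^ k) g)⁻¹ * A ^ (N - 1) := by
        rw [← map_inv θ, hA, mul_assoc, ← pow_succ', Nat.sub_add_cancel hN, hAN, mul_one]
      rw [h1, mul_assoc, mul_assoc, LinearMap.trace_mul_comm, mul_assoc, mul_assoc, ← hh,
        ← mul_assoc (A ^ (N - 1)), ← pow_succ, Nat.sub_add_cancel hN, hAN, one_mul]
  set P : Finset Q := Finset.univ.filter fun g => ∀ a : K, σ g ≠ a • 1 with hP
  have hPinv : ∀ (k : ℕ) (g : Q), k ≤ N → ((θ ^ k) g ∈ P ↔ g ∈ P) := by
    intro k g hk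
    simp only [hP, Finset.mem_filter, Finset.mem_univ, true_and]
    have h1 : σ ((θ ^ k) g) = A ^ k * σ g * A ^ (N - k) := by
      rw [pow_mul_sigma hA, mul_assoc, hpowN k hk, mul_one]
    have h2 : σ g = A ^ (N - k) * σ ((θ ^ k) g) * A ^ k := by
      rw [h1]
      simp only [mul_assoc, hpowN' k hk, mul_one]
      rw [← mul_assoc, hpowN' k hk, one_mul]
    constructor <;> intro hg a ha <;> refine hg a ?_
    · rw [h1, ha, mul_smul_comm, mul_one, smul_mul_assoc, hpowN k hk]
    · rw [h2, ha, mul_smul_comm, mul_one, smul_mul_assoc, hpowN' k hk]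
  -- orbit representatives
  let out : Q → Q := fun g =>
    (Quotient.mk (MulAction.orbitRel (Subgroup.zpowers θ) Q) g).out
  let w : Q → K := fun g => if out g = g then 1 else 0
  have hw : ∀ g ∈ P, ∑ k ∈ Finset.range N, w ((θ ^ k) g) = 1 := by
    intro g hg
    have hfr := hfree g (Finset.mem_filter.1 hg).2
    have hrel : ∀ k : ℕ, out ((θ ^ k) g) = out g := fun k => by
      refine congrArg Quotient.out (Quotient.sound ?_)
      exact ⟨⟨θ ^ k, Subgroup.npow_mem_zpowers θ k⟩, rfl⟩
    obtain ⟨⟨e, he⟩, heg⟩ : (out g) ∈ MulAction.orbit (Subgroup.zpowers θ) g :=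
      Quotient.mk_out (s := MulAction.orbitRel (Subgroup.zpowers θ) Q) g
    have heg' : e g = out g := heg
    obtain ⟨j, rfl⟩ := Subgroup.mem_zpowers_iff.1 he
    obtain ⟨i, hi, hij⟩ : ∃ i < N, θ ^ j = θ ^ i := by
      refine ⟨(j % (N : ℤ)).toNat, ?_, ?_⟩
      · have := Int.emod_lt_of_pos j (Int.natCast_pos.2 hN)
        omega
      · conv_lhs => rw [← Int.emod_add_mul_ediv j N, zpow_add, zpow_mul, zpow_natCast, hθN, one_zpow,
          mul_one]
        rw [← zpow_natCast, Int.toNat_of_nonneg (Int.emod_nonneg _ (by omega))]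
    rw [hij] at heg'
    rw [Finset.sum_eq_single i]
    · simp only [w]
      rw [if_pos (by rw [hrel, heg'])]
    · intro k hk hki
      simp only [w, hrel, ite_eq_right_iff, one_ne_zero, imp_false]
      intro e'
      rw [← heg'] at e'
      rcases Nat.lt_or_gt_of_ne hki with hlt | hlt
      · refine hfr (i - k) (by omega) (by omega) ?_
        have h3 : (θ ^ k) ((θ ^ (i - k)) g) = (θ ^ k) g := by
          rw [← MulAut.mul_apply, ← pow_add, Nat.add_sub_cancel' hlt.le, e']
        exact (θ ^ k).injective h3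
      · refine hfr (k - i) (by omega) (by simp at hk; omega) ?_
        have h3 : (θ ^ i) ((θ ^ (k - i)) g) = (θ ^ i) g := by
          rw [← MulAut.mul_apply, ← pow_add, Nat.add_sub_cancel' hlt.le, e']
        exact (θ ^ i).injective h3
    · intro h; simp only [Finset.mem_range] at h; omega
  -- the trace formula
  have hsplit : ∃ a : K, (∑ g ∈ Finset.univ \ P, c g • σ g) = a • (1 : Module.End K U) := by
    have : ∀ g ∈ Finset.univ \ P, ∃ b : K, c g • σ g = b • (1 : Module.End K U) := by
      intro g hg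
      simp only [hP, Finset.mem_sdiff, Finset.mem_univ, Finset.mem_filter, true_and, not_forall,
        not_not] at hg
      obtain ⟨a, ha⟩ := hg
      exact ⟨c g * a, by rw [ha, smul_smul]⟩
    choose! b hb using this
    exact ⟨∑ g ∈ Finset.univ \ P, b g, by rw [Finset.sum_smul]; exact Finset.sum_congr rfl hb⟩
  obtain ⟨a, ha⟩ := hsplit
  set F₀ : Module.End K U := ∑ g ∈ P, (w g * c g) • σ g with hF₀
  have hT : (∑ g ∈ P, c g • σ g) = ∑ k ∈ Finset.range N, A ^ k * F₀ * A ^ (N - k) := by
    -- rewrite each term over the orbit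
    calc (∑ g ∈ P, c g • σ g)
        = ∑ g ∈ P, ∑ k ∈ Finset.range N, (w ((θ ^ k) g) * c g) • σ g := by
          refine Finset.sum_congr rfl fun g hg => ?_
          rw [← Finset.sum_smul, ← Finset.sum_mul, hw g hg, one_mul]
      _ = ∑ k ∈ Finset.range N, ∑ g ∈ P, (w ((θ ^ k) g) * c g) • σ g := Finset.sum_comm
      _ = ∑ k ∈ Finset.range N, ∑ g ∈ P, (w g * c g) • (A ^ (N - k) * σ g * A ^ k) := by
          refine Finset.sum_congr rfl fun k hk => ?_
          have hk' : k ≤ N := (Finset.mem_range.1 hk).le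
          refine Finset.sum_equiv (θ ^ k).toEquiv (fun g => (hPinv k g hk').symm) fun g _ => ?_
          simp only [MulEquiv.toEquiv_eq_coe, EquivLike.coe_coe, hcinv]
          rw [mul_assoc (A ^ (N - k)), ← pow_mul_sigma hA, ← mul_assoc, hpowN' k hk', one_mul]
      _ = ∑ k ∈ Finset.range N, A ^ (N - k) * F₀ * A ^ k := by
          refine Finset.sum_congr rfl fun k _ => ?_
          rw [hF₀, Finset.mul_sum, Finset.sum_mul]
          simp only [mul_smul_comm, smul_mul_assoc]
      _ = ∑ k ∈ Finset.range N, A ^ (k + 1) * F₀ * A ^ (N - (k + 1)) := by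
          rw [← Finset.sum_range_reflect]
          refine Finset.sum_congr rfl fun k hk => ?_
          have := Finset.mem_range.1 hk
          rw [show N - (N - 1 - k) = k + 1 by omega, show N - 1 - k = N - (k + 1) by omega]
      _ = ∑ k ∈ Finset.range N, A ^ k * F₀ * A ^ (N - k) := by
          have h1 := Finset.sum_range_succ' (fun k => A ^ k * F₀ * A ^ (N - k)) N
          rw [Finset.sum_range_succ] at h1
          simp only [Nat.sub_self, Nat.sub_zero, pow_zero, one_mul, mul_one, hAN] at h1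
          exact (add_right_cancel h1).symm
  have hsum := sum_trace_smul σ hσ hQ h
  rw [← Finset.sum_sdiff (Finset.subset_univ P)] at hsum
  change (∑ g ∈ Finset.univ \ P, c g • σ g) + ∑ g ∈ P, c g • σ g = _ at hsum
  rw [ha, hT] at hsum
  set κ := ((Fintype.card Q : K) / (finrank K U : K)) with hκ
  have hκ0 : κ ≠ 0 := div_ne_zero hQ (finrank_ne_zero σ hσ hQ)
  refine ⟨κ⁻¹ * a, κ⁻¹ • F₀, ?_⟩
  simp only [mul_smul_comm, smul_mul_assoc]
  rw [← Finset.smul_sum, mul_smul, ← smul_add, hsum, inv_smul_smul₀ hκ0]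

end Cfsg.Agent.Lib.HallHigmanB
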