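import Mathlib

/-!
# Conjugates of irreducible invariant subspaces

For a homomorphism `ρ : G →* End V` and a subgroup `Q` normalised by `t`: twisting of irreducible
`Q`-subspaces by `t`, invariant copies, and independence of non-isomorphic conjugates.
-/

set_option autoImplicit false

namespace Cfsg.Agent.Lib.HallHigmanB

open Module

variable {K V G : Type*} [Field K] [AddCommGroup V] [Module K V] [Group G]
variable (ρ : G →* Module.End K V) (Q : Subgroup G)

/-- Invariant under `Q`. -/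
def Invt (W : Submodule K V) : Prop := ∀ g ∈ Q, ∀ w ∈ W, ρ g w ∈ W

/-- Irreducible `Q`-subspace. -/
def IrredSub (W : Submodule K V) : Prop :=
  W ≠ ⊥ ∧ Invt ρ Q W ∧ ∀ W' ≤ W, Invt ρ Q W' → W' = ⊥ ∨ W' = W

/-- A nonzero intertwiner from `W` into `W'`. -/
def Linked (W W' : Submodule K V) : Prop :=
  ∃ f : W →ₗ[K] V, f ≠ 0 ∧ LinearMap.range f ≤ W' ∧
    ∀ g ∈ Q, ∀ (w : W) (h : ρ g w ∈ W), f ⟨ρ g w, h⟩ = ρ g (f w)

variable {ρ Q}

/-- The representation on an invariant subspace. -/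
noncomputable def restrictRep {W : Submodule K V} (hW : Invt ρ Q W) : Q →* Module.End K W where
  toFun g := (ρ g).restrict (fun w hw => hW g g.2 w hw)
  map_one' := by ext w; simp [LinearMap.restrict_apply]
  map_mul' g h := by ext w; simp [LinearMap.restrict_apply]

theorem restrictRep_apply {W : Submodule K V} (hW : Invt ρ Q W) (g : Q) (w : W) :
    (restrictRep hW g w : V) = ρ g w := rfl

theorem exists_irredSub [FiniteDimensional K V] {W : Submodule K V} (hW : W ≠ ⊥)
    (hi : Invt ρ Q W) : ∃ U ≤ W, IrredSub ρ Q U := by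
  obtain ⟨U, ⟨hUW, hU0, hUi⟩, hmin⟩ := (wellFounded_lt (α := Submodule K V)).has_min
    {U | U ≤ W ∧ U ≠ ⊥ ∧ Invt ρ Q U} ⟨W, le_rfl, hW, hi⟩
  refine ⟨U, hUW, hU0, hUi, fun W' hW' hi' => ?_⟩
  by_contra h
  push Not at h
  exact hmin W' ⟨hW'.trans hUW, h.1, hi'⟩ (lt_of_le_of_ne hW' h.2)

theorem apply_inv_apply (ρ : G →* Module.End K V) (t : G) (v : V) : ρ t⁻¹ (ρ t v) = v := by
  rw [← Module.End.mul_apply, ← map_mul, inv_mul_cancel, map_one, Module.End.one_apply]

theorem apply_apply_inv (ρ : G →* Module.End K V) (t : G) (v : V) : ρ t (ρ t⁻¹ v) = v := by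
  rw [← Module.End.mul_apply, ← map_mul, mul_inv_cancel, map_one, Module.End.one_apply]

theorem conj_mem {t : G} (ht : t ∈ Subgroup.normalizer (Q : Set G)) {g : G} (hg : g ∈ Q) :
    t * g * t⁻¹ ∈ Q :=
  (Subgroup.mem_normalizer_iff.1 ht g).1 hg

theorem conj_mem' {t : G} (ht : t ∈ Subgroup.normalizer (Q : Set G)) {g : G} (hg : g ∈ Q) :
    t⁻¹ * g * t ∈ Q := by
  simpa using conj_mem (inv_mem ht) hg

theorem invt_map {W : Submodule K V} {t : G} (ht : t ∈ Subgroup.normalizer (Q : Set G))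
    (hW : Invt ρ Q W) : Invt ρ Q (W.map (ρ t)) := by
  rintro g hg _ ⟨w, hw, rfl⟩
  refine ⟨ρ (t⁻¹ * g * t) w, hW _ (conj_mem' ht hg) w hw, ?_⟩
  rw [← Module.End.mul_apply, ← Module.End.mul_apply, ← map_mul, ← map_mul]
  congr 2
  group

theorem map_map_inv (ρ : G →* Module.End K V) (W : Submodule K V) (t : G) :
    (W.map (ρ t)).map (ρ t⁻¹) = W := by
  ext v
  simp [Submodule.mem_map, apply_inv_apply]

theorem map_map_mul (ρ : G →* Module.End K V) (W : Submodule K V) (s t : G) :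
    (W.map (ρ t)).map (ρ s) = W.map (ρ (s * t)) := by
  rw [← Submodule.map_comp, map_mul]
  rfl

theorem irredSub_map {W : Submodule K V} {t : G} (ht : t ∈ Subgroup.normalizer (Q : Set G))
    (hW : IrredSub ρ Q W) : IrredSub ρ Q (W.map (ρ t)) := by
  refine ⟨fun h => hW.1 ?_, invt_map ht hW.2.1, fun W' hW' hi => ?_⟩
  · rw [← map_map_inv ρ W t, h, Submodule.map_bot]
  · have h1 : W'.map (ρ t⁻¹) ≤ W := by
      rw [← map_map_inv ρ W t]; exact Submodule.map_mono hW'
    have e : (W'.map (ρ t⁻¹)).map (ρ t) = W' := by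
      rw [map_map_mul, mul_inv_cancel, map_one, Module.End.one_eq_id, Submodule.map_id]
    rcases hW.2.2 _ h1 (invt_map (inv_mem ht) hi) with h | h
    · exact Or.inl (by rw [← e, h, Submodule.map_bot])
    · exact Or.inr (by rw [← e, h])

/-- Range of an intertwiner. -/
theorem invt_range {W : Submodule K V} (hW : Invt ρ Q W) (f : W →ₗ[K] V)
    (hf : ∀ g ∈ Q, ∀ (w : W) (h : ρ g w ∈ W), f ⟨ρ g w, h⟩ = ρ g (f w)) :
    Invt ρ Q (LinearMap.range f) := by
  rintro g hg _ ⟨w, rfl⟩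
  exact ⟨⟨ρ g w, hW g hg w w.2⟩, hf g hg w _⟩

theorem injective_of_intertwine {W : Submodule K V} (hW : IrredSub ρ Q W) (f : W →ₗ[K] V)
    (hf0 : f ≠ 0) (hf : ∀ g ∈ Q, ∀ (w : W) (h : ρ g w ∈ W), f ⟨ρ g w, h⟩ = ρ g (f w)) :
    Function.Injective f := by
  rw [← LinearMap.ker_eq_bot]
  have hi : Invt ρ Q ((LinearMap.ker f).map W.subtype) := by
    rintro g hg _ ⟨w, hw, rfl⟩
    exact ⟨⟨ρ g w, hW.2.1 g hg w w.2⟩, by
      rw [SetLike.mem_coe, LinearMap.mem_ker, hf g hg w, LinearMap.mem_ker.1 hw, map_zero], rfl⟩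
  rcases hW.2.2 _ (Submodule.map_subtype_le _ _) hi with h | h
  · rw [eq_bot_iff]
    intro w hw
    have : (w : V) ∈ (LinearMap.ker f).map W.subtype := ⟨w, hw, rfl⟩
    rw [h, Submodule.mem_bot] at this
    exact Subtype.ext this
  · refine absurd ?_ hf0
    ext w
    have : (w : V) ∈ (LinearMap.ker f).map W.subtype := h.symm ▸ w.2
    obtain ⟨w', hw', he⟩ := this
    rw [← Subtype.ext he]
    exact LinearMap.mem_ker.1 hw'

theorem Linked.refl {W : Submodule K V} (hW : IrredSub ρ Q W) : Linked ρ Q W W := by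
  refine ⟨W.subtype, fun h => hW.1 ?_, by rw [Submodule.range_subtype], fun g _ w h => rfl⟩
  rw [← Submodule.range_subtype W, h, LinearMap.range_zero]

theorem Linked.trans {W W' W'' : Submodule K V} (hW : IrredSub ρ Q W) (hW' : IrredSub ρ Q W')
    (h : Linked ρ Q W W') (h' : Linked ρ Q W' W'') : Linked ρ Q W W'' := by
  obtain ⟨f, hf0, hfr, hf⟩ := h
  obtain ⟨f', hf0', hfr', hf'⟩ := h'
  let f₁ : W →ₗ[K] W' := f.codRestrict W' fun w => hfr ⟨w, rfl⟩
  refine ⟨f'.comp f₁, fun h0 => hf0 ?_, (LinearMap.range_comp_le_range _ _).trans hfr',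
    fun g hg w h => ?_⟩
  · ext w
    have h1 : f' (f₁ w) = f' 0 := by
      rw [← LinearMap.comp_apply, h0, map_zero, LinearMap.zero_apply]
    exact congrArg Subtype.val (injective_of_intertwine hW' f' hf0' hf' h1)
  · have e : f₁ ⟨ρ g w, h⟩ = ⟨ρ g (f₁ w), hW'.2.1 g hg _ (f₁ w).2⟩ := Subtype.ext (hf g hg w h)
    rw [LinearMap.comp_apply, e, hf' g hg]
    rfl

theorem Linked.symm [FiniteDimensional K V] {W W' : Submodule K V} (hW : IrredSub ρ Q W)
    (hW' : IrredSub ρ Q W') (h : Linked ρ Q W W') : Linked ρ Q W' W := by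
  obtain ⟨f, hf0, hfr, hf⟩ := h
  have hinj := injective_of_intertwine hW f hf0 hf
  have hne : LinearMap.range f ≠ ⊥ := fun h => hf0 (LinearMap.range_eq_bot.1 h)
  have hr : LinearMap.range f = W' :=
    (hW'.2.2 _ hfr (invt_range hW.2.1 f hf)).resolve_left hne
  let e : W ≃ₗ[K] W' := (LinearEquiv.ofInjective f hinj).trans (LinearEquiv.ofEq _ _ hr)
  refine ⟨W.subtype.comp e.symm.toLinearMap, fun h0 => hW'.1 ?_, ?_, fun g hg w h => ?_⟩
  · rw [eq_bot_iff]
    intro v hv
    have h1 := LinearMap.congr_fun h0 ⟨v, hv⟩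
    simp only [LinearMap.comp_apply, LinearMap.zero_apply, LinearEquiv.coe_coe,
      Submodule.subtype_apply] at h1
    have h2 : e.symm ⟨v, hv⟩ = 0 := Subtype.ext h1
    simpa using congrArg (fun z => (e z : V)) h2
  · exact (LinearMap.range_comp_le_range _ _).trans (by rw [Submodule.range_subtype])
  · simp only [LinearMap.comp_apply, LinearEquiv.coe_coe, Submodule.subtype_apply]
    have h1 : e.symm ⟨ρ g w, h⟩ = ⟨ρ g (e.symm w : V), hW.2.1 g hg _ (e.symm w).2⟩ := by
      rw [LinearEquiv.symm_apply_eq]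
      apply Subtype.ext
      show ρ g w = f _
      rw [hf g hg (e.symm w)]
      congr 1
      exact (congrArg Subtype.val (e.apply_symm_apply w)).symm
    rw [h1]

theorem Linked.map {W W' : Submodule K V} {t : G} (ht : t ∈ Subgroup.normalizer (Q : Set G))
    (hW : Invt ρ Q W) (h : Linked ρ Q W W') : Linked ρ Q (W.map (ρ t)) (W'.map (ρ t)) := by
  obtain ⟨f, hf0, hfr, hf⟩ := h
  have hb : ∀ w : W.map (ρ t), ρ t⁻¹ (w : V) ∈ W := by
    rintro ⟨_, w, hw, rfl⟩
    simpa [apply_inv_apply] using hw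
  let down : W.map (ρ t) →ₗ[K] W := ((ρ t⁻¹).comp (W.map (ρ t)).subtype).codRestrict W hb
  refine ⟨(ρ t).comp (f.comp down), fun h0 => hf0 ?_, ?_, fun g hg w h => ?_⟩
  · ext w
    have h1 := congrArg (ρ t⁻¹) (LinearMap.congr_fun h0 ⟨ρ t w, Submodule.mem_map_of_mem w.2⟩)
    simp only [LinearMap.comp_apply, apply_inv_apply, LinearMap.zero_apply, map_zero] at h1
    rw [show down ⟨ρ t w, Submodule.mem_map_of_mem w.2⟩ = w from
      Subtype.ext (apply_inv_apply ρ t w)] at h1
    simpa using h1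
  · rintro _ ⟨w, rfl⟩
    exact Submodule.mem_map_of_mem (hfr ⟨_, rfl⟩)
  · simp only [LinearMap.comp_apply]
    have hg' := conj_mem' ht hg
    have e : down ⟨ρ g w, h⟩ = ⟨ρ (t⁻¹ * g * t) (down w : V), hW _ hg' _ (down w).2⟩ := by
      apply Subtype.ext
      show ρ t⁻¹ (ρ g (w : V)) = ρ (t⁻¹ * g * t) (ρ t⁻¹ (w : V))
      rw [← Module.End.mul_apply, ← Module.End.mul_apply, ← map_mul, ← map_mul]
      congr 2
      group
    rw [e, hf _ hg', ← Module.End.mul_apply, ← Module.End.mul_apply, ← map_mul, ← map_mul]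
    congr 2
    group

/-- A conjugate-stable isomorphism class contains a `t`-invariant member. -/
theorem exists_invariant_copy [IsAlgClosed K] [FiniteDimensional K V] {W : Submodule K V}
    (hW : IrredSub ρ Q W) {t : G} (ht : t ∈ Subgroup.normalizer (Q : Set G))
    (h : Linked ρ Q W (W.map (ρ t))) :
    ∃ U, IrredSub ρ Q U ∧ Linked ρ Q W U ∧ ∀ u ∈ U, ρ t u ∈ U := by
  obtain ⟨f, hf0, hfr, hf⟩ := h
  have hinj := injective_of_intertwine hW f hf0 hf
  have hne : LinearMap.range f ≠ ⊥ := fun h => hf0 (LinearMap.range_eq_bot.1 h)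
  have hr : LinearMap.range f = W.map (ρ t) :=
    ((irredSub_map ht hW).2.2 _ hfr (invt_range hW.2.1 f hf)).resolve_left hne
  -- the operator `A` on `W` with `f (A w) = t w`
  let e : W ≃ₗ[K] (W.map (ρ t) : Submodule K V) :=
    (LinearEquiv.ofInjective f hinj).trans (LinearEquiv.ofEq _ _ hr)
  let tW : W →ₗ[K] (W.map (ρ t) : Submodule K V) :=
    ((ρ t).comp W.subtype).codRestrict _ fun w => Submodule.mem_map_of_mem w.2
  let A : Module.End K W := e.symm.toLinearMap.comp tW
  have hfA : ∀ w : W, f (A w) = ρ t w := fun w =>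
    congrArg Subtype.val (e.apply_symm_apply (tW w))
  have hAinj : Function.Injective A := by
    intro a b hab
    have h1 : ρ t (a : V) = ρ t b := by rw [← hfA, ← hfA, hab]
    exact Subtype.ext (by simpa [apply_inv_apply] using congrArg (ρ t⁻¹) h1)
  let Ae : W ≃ₗ[K] W := LinearEquiv.ofBijective A ⟨hAinj, LinearMap.surjective_of_injective hAinj⟩
  have hAg : ∀ g (hg : g ∈ Q) (w : W), A ⟨ρ g w, hW.2.1 g hg w w.2⟩ =
      ⟨ρ (t * g * t⁻¹) (A w : V), hW.2.1 _ (conj_mem ht hg) _ (A w).2⟩ := by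
    intro g hg w
    apply hinj
    rw [hfA, hf _ (conj_mem ht hg), hfA, ← Module.End.mul_apply, ← Module.End.mul_apply,
      ← map_mul, ← map_mul]
    congr 2
    group
  -- intertwiners from `W`
  let S : Submodule K (W →ₗ[K] V) :=
    { carrier := {φ | ∀ g (hg : g ∈ Q) (w : W), φ ⟨ρ g w, hW.2.1 g hg w w.2⟩ = ρ g (φ w)}
      add_mem' := fun {a b} ha hb g hg w => by simp [ha g hg w, hb g hg w]
      zero_mem' := fun g hg w => by simp
      smul_mem' := fun c a ha g hg w => by simp [ha g hg w] }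
  have hAs : ∀ g (hg : g ∈ Q) (w : W), Ae.symm ⟨ρ g w, hW.2.1 g hg w w.2⟩ =
      ⟨ρ (t⁻¹ * g * t) (Ae.symm w : V), hW.2.1 _ (conj_mem' ht hg) _ (Ae.symm w).2⟩ := by
    intro g hg w
    rw [LinearEquiv.symm_apply_eq]
    show _ = A _
    rw [hAg _ (conj_mem' ht hg)]
    apply Subtype.ext
    have e2 : (A (Ae.symm w) : V) = w := congrArg Subtype.val (Ae.apply_symm_apply w)
    simp only [e2]
    congr 2
    group
  let B : Module.End K S :=
    { toFun := fun φ => ⟨(ρ t).comp ((φ : W →ₗ[K] V).comp Ae.symm.toLinearMap), fun g hg w => by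
        simp only [LinearMap.comp_apply, LinearEquiv.coe_coe]
        rw [hAs g hg w, φ.2 _ (conj_mem' ht hg), ← Module.End.mul_apply, ← Module.End.mul_apply,
          ← map_mul, ← map_mul]
        congr 2
        group⟩
      map_add' := fun a b => Subtype.ext (by ext w; simp)
      map_smul' := fun c a => Subtype.ext (by ext w; simp) }
  haveI : Nontrivial S := by
    refine ⟨⟨⟨W.subtype, fun g hg w => rfl⟩, 0, fun h0 => hW.1 ?_⟩⟩
    rw [← Submodule.range_subtype W, show W.subtype = 0 from congrArg Subtype.val h0,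
      LinearMap.range_zero]
  obtain ⟨μ, hμ⟩ := Module.End.exists_eigenvalue B
  obtain ⟨φ, hφ, hφ0⟩ := hμ.exists_hasEigenvector
  rw [Module.End.mem_eigenspace_iff] at hφ
  have hφ' : (φ : W →ₗ[K] V) ≠ 0 := fun h => hφ0 (Subtype.ext h)
  have hφeq : ∀ g ∈ Q, ∀ (w : W) (h : ρ g w ∈ W), (φ : W →ₗ[K] V) ⟨ρ g w, h⟩ = ρ g ((φ : W →ₗ[K] V) w) :=
    fun g hg w _ => φ.2 g hg w
  have hUi := invt_range hW.2.1 _ hφeq
  have hφinj := injective_of_intertwine hW _ hφ' hφeq
  refine ⟨LinearMap.range (φ : W →ₗ[K] V), ⟨fun h => hφ' (LinearMap.range_eq_bot.1 h), hUi,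
    fun W' hW' hi => ?_⟩, ⟨φ, hφ', le_rfl, hφeq⟩, ?_⟩
  · have h1 : Invt ρ Q ((W'.comap (φ : W →ₗ[K] V)).map W.subtype) := by
      rintro g hg _ ⟨w, hw, rfl⟩
      exact ⟨⟨ρ g w, hW.2.1 g hg w w.2⟩, by
        show (φ : W →ₗ[K] V) _ ∈ W'
        rw [φ.2 g hg w]; exact hi g hg _ hw, rfl⟩
    rcases hW.2.2 _ (Submodule.map_subtype_le _ _) h1 with h | h
    · left
      rw [eq_bot_iff]
      intro v hv
      obtain ⟨w, rfl⟩ := hW' hv
      have : (w : V) ∈ (W'.comap (φ : W →ₗ[K] V)).map W.subtype := ⟨w, hv, rfl⟩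
      rw [h, Submodule.mem_bot] at this
      simp [show w = 0 from Subtype.ext this]
    · right
      refine le_antisymm hW' ?_
      rintro _ ⟨w, rfl⟩
      have : (w : V) ∈ (W'.comap (φ : W →ₗ[K] V)).map W.subtype := h.symm ▸ w.2
      obtain ⟨w', hw', he⟩ := this
      rw [← Subtype.ext he]
      exact hw'
  · rintro _ ⟨w, rfl⟩
    have h1 := LinearMap.congr_fun (congrArg Subtype.val hφ) (Ae w)
    simp only [B, LinearMap.coe_mk, AddHom.coe_mk, LinearMap.comp_apply, LinearEquiv.coe_coe,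
      LinearEquiv.symm_apply_apply, SetLike.val_smul, LinearMap.smul_apply] at h1
    exact ⟨μ • Ae w, by rw [map_smul, h1]⟩

/-- An irreducible subspace inside a sum is linked to one of the summands. -/
theorem exists_linked_of_le_sup {ι : Type*} {W : Submodule K V} (hW : IrredSub ρ Q W)
    (U : ι → Submodule K V) : ∀ s : Finset ι, (∀ i ∈ s, IrredSub ρ Q (U i)) → W ≤ s.sup U →
      ∃ i ∈ s, Linked ρ Q W (U i) := by
  classical
  intro s
  induction s using Finset.induction_on with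
  | empty => intro _ h; exact absurd (le_bot_iff.1 (by simpa using h)) hW.1
  | @insert a s has ih =>
    intro hU hle
    rw [Finset.sup_insert] at hle
    have hUs : ∀ i ∈ s, IrredSub ρ Q (U i) := fun i hi => hU i (Finset.mem_insert_of_mem hi)
    have hSi : Invt ρ Q (s.sup U) := by
      intro g hg v hv
      have : s.sup U ≤ (s.sup U).comap (ρ g) := Finset.sup_le fun i hi w hw =>
        Submodule.mem_comap.2 (SetLike.le_def.1 (Finset.le_sup hi) ((hUs i hi).2.1 g hg w hw))
      exact this hv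
    by_cases hWs : W ≤ s.sup U
    · obtain ⟨i, hi, h⟩ := ih hUs hWs
      exact ⟨i, Finset.mem_insert_of_mem hi, h⟩
    have ha := hU a (Finset.mem_insert_self a s)
    have hdisj : U a ⊓ s.sup U = ⊥ := by
      refine (ha.2.2 _ inf_le_left fun g hg w hw => ⟨ha.2.1 g hg w hw.1, hSi g hg w hw.2⟩).resolve_right
        fun h => hWs (hle.trans (sup_le ?_ le_rfl))
      rw [← h]
      exact inf_le_right
    obtain ⟨C, hC⟩ := Submodule.exists_isCompl (U a ⊔ s.sup U)
    have hcompl : IsCompl (U a) (s.sup U ⊔ C) := by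
      constructor
      · refine Submodule.disjoint_def.2 fun v hva hvb => ?_
        obtain ⟨b, hb, c, hc, rfl⟩ := Submodule.mem_sup.1 hvb
        have hc' : c ∈ U a ⊔ s.sup U := by
          have := sub_mem (show _ ∈ U a ⊔ s.sup U from Submodule.mem_sup_left hva) (Submodule.mem_sup_right hb)
          simpa using this
        have hc0 : c = 0 := Submodule.disjoint_def.1 hC.disjoint c hc' hc
        subst hc0
        have : b + 0 ∈ U a ⊓ s.sup U := ⟨hva, by simpa using hb⟩
        rwa [hdisj, Submodule.mem_bot] at this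
      · rw [codisjoint_iff, ← sup_assoc]
        exact hC.sup_eq_top
    let π := (U a).projectionOnto (s.sup U ⊔ C) hcompl
    let f : W →ₗ[K] V := (U a).subtype.comp (π.comp W.subtype)
    have hfapp : ∀ (w : W) (u : V), u ∈ U a → (w : V) - u ∈ s.sup U ⊔ C → f w = u := by
      intro w u hu hsub
      have h2 : π ((w : V) - u) = 0 := (Submodule.projectionOnto_apply_eq_zero_iff hcompl).2 hsub
      have h3 : π u = ⟨u, hu⟩ := Submodule.projectionOnto_apply_left hcompl ⟨u, hu⟩
      rw [map_sub, sub_eq_zero, h3] at h2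
      show ((π (w : V)) : V) = u
      rw [h2]
    have hdec : ∀ w : W, ∃ u ∈ U a, f w = u ∧ (w : V) - u ∈ s.sup U := by
      intro w
      obtain ⟨u, hu, b, hb, hub⟩ := Submodule.mem_sup.1 (hle w.2)
      have hsub : (w : V) - u ∈ s.sup U := by rw [← hub, add_sub_cancel_left]; exact hb
      exact ⟨u, hu, hfapp w u hu (Submodule.mem_sup_left hsub), hsub⟩
    refine ⟨a, Finset.mem_insert_self a s, f, ?_, ?_, ?_⟩
    · intro h0
      refine hWs fun v hv => ?_
      obtain ⟨u, _, hfu, hsub⟩ := hdec ⟨v, hv⟩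
      rw [h0, LinearMap.zero_apply] at hfu
      simpa [← hfu] using hsub
    · exact (LinearMap.range_comp_le_range _ _).trans (by rw [Submodule.range_subtype])
    · intro g hg w h
      obtain ⟨u, hu, hfu, hsub⟩ := hdec w
      rw [hfu]
      refine hfapp _ _ (ha.2.1 g hg u hu) (Submodule.mem_sup_left ?_)
      rw [← map_sub]
      exact hSi g hg _ hsub

end Cfsg.Agent.Lib.HallHigmanB
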