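import Cfsg.Agent.Lib.HallHigmanB.Average

/-!
# The nilpotency index in the critical case of the Hall–Higman theorem
-/

set_option autoImplicit false

namespace Cfsg.Agent.Lib.HallHigmanB

open Module Polynomial

variable {K U : Type*} [Field K] [AddCommGroup U] [Module K U] {p : ℕ} [Fact p.Prime] [CharP K p]

theorem geomSum_identity (m : ℕ) :
    (∑ k ∈ Finset.range (p ^ m), C (X ^ k : K[X]) * (X : K[X][X]) ^ (p ^ m - 1 - k)) =
      ∑ k ∈ Finset.range (p ^ m),
        C ((X - 1) ^ k : K[X]) * ((X : K[X][X]) - 1) ^ (p ^ m - 1 - k) := by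
  haveI : CharP K[X][X] p := inferInstance
  have hne : (C (X : K[X]) - (X : K[X][X])) ≠ 0 := by
    intro h
    have := congrArg (fun P => P.coeff 1) h
    simp [coeff_C] at this
  apply mul_right_cancel₀ hne
  simp only [map_pow, map_sub, map_one]
  conv_rhs => rw [show C (X : K[X]) - (X : K[X][X]) = (C (X : K[X]) - 1) - (X - 1) by ring]
  rw [geom_sum₂_mul, geom_sum₂_mul, sub_pow_char_pow, sub_pow_char_pow]
  ring

variable (A G : Module.End K U)

/-- The evaluation `f(X) g(Y) ↦ f(A) * G * g(A)`. -/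
noncomputable def bieval : K[X][X] →+ Module.End K U where
  toFun P := P.sum fun j c => aeval A c * G * A ^ j
  map_zero' := sum_zero_index _
  map_add' P R := sum_add_index P R _ (fun j => by simp) fun j a b => by
    rw [map_add, add_mul, add_mul]

omit [Fact p.Prime] [CharP K p] in
theorem bieval_apply (f g : K[X]) :
    bieval A G (C f * g.map C) = aeval A f * G * aeval A g := by
  induction g using Polynomial.induction_on' with
  | add a b ha hb => rw [Polynomial.map_add, mul_add, map_add, ha, hb, map_add, mul_add]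
  | monomial j c =>
    show (C f * (monomial j c).map C).sum (fun j c => aeval A c * G * A ^ j) = _
    rw [map_monomial, C_mul_monomial, sum_monomial_index _ _ (by simp), map_mul, aeval_C,
      aeval_monomial, Algebra.algebraMap_eq_smul_one, smul_mul_assoc, one_mul, mul_smul_comm,
      mul_one, smul_mul_assoc, smul_mul_assoc, mul_smul_comm]

/-- The trace under conjugation by a unipotent element, in terms of its nilpotent part. -/
theorem trace_eq (m : ℕ) :
    (∑ k ∈ Finset.range (p ^ m), A ^ k * G * A ^ (p ^ m - 1 - k)) =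
      ∑ k ∈ Finset.range (p ^ m), (A - 1) ^ k * G * (A - 1) ^ (p ^ m - 1 - k) := by
  have h := congrArg (bieval A G) (geomSum_identity (K := K) (p := p) m)
  rw [map_sum, map_sum] at h
  have h1 : ∀ j : ℕ, ((X : K[X][X]) ^ j) = ((X : K[X]) ^ j).map C := fun j => by simp
  have h2 : ∀ j : ℕ, ((X : K[X][X]) - 1) ^ j = (((X : K[X]) - 1) ^ j).map C := fun j => by simp
  simp only [h1, h2, bieval_apply] at h
  simp only [map_pow, aeval_X, map_sub, map_one] at h
  exact h

variable {A} {m : ℕ}

theorem trace_eq_nilpotent (hA : A ^ p ^ m = 1) (F : Module.End K U) :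
    (∑ k ∈ Finset.range (p ^ m), A ^ k * F * A ^ (p ^ m - k)) =
      ∑ k ∈ Finset.range (p ^ m), (A - 1) ^ k * (F * A) * (A - 1) ^ (p ^ m - 1 - k) := by
  rw [← trace_eq A (F * A) m]
  refine Finset.sum_congr rfl fun k hk => ?_
  have := Finset.mem_range.1 hk
  rw [show p ^ m - k = p ^ m - 1 - k + 1 by omega, pow_succ' A (p ^ m - 1 - k)]
  simp only [mul_assoc]

variable (hA : A ^ p ^ m = 1)
  (hcomm : ∀ h : Module.End K U, A * h = h * A → ∃ (a : K) (F : Module.End K U),
    h = a • 1 + ∑ k ∈ Finset.range (p ^ m), A ^ k * F * A ^ (p ^ m - k))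

include hA hcomm in
/-- Lower bound on the nilpotency index. -/
theorem le_of_pow_eq_zero [Nontrivial U] (hA1 : A ≠ 1) {r : ℕ} (hr : (A - 1) ^ r = 0) :
    p ^ m - 1 ≤ r := by
  by_contra hlt
  set N := p ^ m
  set Z := A - 1 with hZ
  have hz : Z ^ (N - 2) = 0 := pow_eq_zero_of_le (by omega) hr
  have hN3 : 3 ≤ N := by
    by_contra h3
    rw [show N - 2 = 0 by omega, pow_zero] at hz
    exact one_ne_zero hz
  obtain ⟨a, F, haF⟩ := hcomm A rfl
  rw [trace_eq_nilpotent hA, ← hZ] at haF
  -- every term is divisible by `Z ^ 2` on the left and by `Z` on the right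
  have hterm : ∀ k ∈ Finset.range N, ∃ Y : Module.End K U,
      Z ^ k * (F * A) * Z ^ (N - 1 - k) = Z ^ 2 * Y * Z := by
    intro k hk
    have := Finset.mem_range.1 hk
    by_cases h1 : k ≤ 1
    · exact ⟨0, by rw [show Z ^ (N - 1 - k) = 0 from pow_eq_zero_of_le (by omega) hz]; simp⟩
    by_cases h2 : N - 2 ≤ k
    · exact ⟨0, by rw [show Z ^ k = 0 from pow_eq_zero_of_le h2 hz]; simp⟩
    obtain ⟨k', rfl⟩ : ∃ k', k = 2 + k' := ⟨k - 2, by omega⟩
    obtain ⟨j', hj'⟩ : ∃ j', N - 1 - (2 + k') = j' + 1 := ⟨N - 1 - (2 + k') - 1, by omega⟩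
    refine ⟨Z ^ k' * (F * A) * Z ^ j', ?_⟩
    rw [hj', pow_add, pow_succ Z j']
    simp only [mul_assoc]
  choose! Y hY using hterm
  rw [Finset.sum_congr rfl hY, ← Finset.sum_mul, ← Finset.mul_sum] at haF
  set Y₀ := ∑ k ∈ Finset.range N, Y k
  -- evaluate on a fixed vector
  have hex : ∃ j, Z ^ j = 0 := ⟨_, hr⟩
  classical
  have hj0 : Nat.find hex ≠ 0 := fun h0 => one_ne_zero (α := Module.End K U)
    (by simpa [h0] using Nat.find_spec hex)
  obtain ⟨j, hj⟩ := Nat.exists_eq_succ_of_ne_zero hj0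
  have hspec : Z ^ (j + 1) = 0 := by
    rw [← Nat.succ_eq_add_one, ← hj]
    exact Nat.find_spec hex
  have hjne : Z ^ j ≠ 0 := Nat.find_min hex (hj ▸ Nat.lt_succ_self j)
  obtain ⟨u, hu⟩ : ∃ u, (Z ^ j) u ≠ 0 := not_forall.1 fun h => hjne (LinearMap.ext h)
  have hZv : Z ((Z ^ j) u) = 0 := by
    rw [← Module.End.mul_apply, ← pow_succ', hspec, LinearMap.zero_apply]
  have ha : a = 1 := by
    have h1 := LinearMap.congr_fun haF ((Z ^ j) u)
    rw [LinearMap.add_apply, Module.End.mul_apply, hZv, map_zero, add_zero, LinearMap.smul_apply,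
      Module.End.one_apply, show A = Z + 1 by simp [hZ], LinearMap.add_apply, hZv, zero_add,
      Module.End.one_apply] at h1
    by_contra hne
    apply hu
    have h2 : (a - 1) • (Z ^ j) u = 0 := by rw [sub_smul, one_smul, ← h1, sub_self]
    exact (smul_eq_zero.1 h2).resolve_left (sub_ne_zero.2 hne)
  have hZZ : Z = Z ^ 2 * Y₀ * Z := by
    rw [hZ, eq_comm, eq_sub_iff_add_eq, ← hZ, haF, ha, one_smul, add_comm]
  rcases Nat.eq_zero_or_pos j with hj1 | hj1
  · apply hA1
    rw [hj1, zero_add, pow_one, hZ, sub_eq_zero] at hspec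
    exact hspec
  · apply hjne
    calc Z ^ j = Z ^ (j - 1) * Z := by rw [← pow_succ, Nat.sub_add_cancel hj1]
      _ = Z ^ (j - 1) * (Z ^ 2 * Y₀ * Z) := by rw [← hZZ]
      _ = Z ^ (j + 1) * Y₀ * Z := by
          rw [← mul_assoc, ← mul_assoc, ← pow_add, show j - 1 + 2 = j + 1 by omega]
      _ = 0 := by rw [hspec, zero_mul, zero_mul]

omit [Fact p.Prime] [CharP K p] in
theorem finrank_ker_pow_le [FiniteDimensional K U] (Z : Module.End K U)
    (h : finrank K (LinearMap.ker Z) ≤ 1) (k : ℕ) : finrank K (LinearMap.ker (Z ^ k)) ≤ k := by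
  induction k with
  | zero => simp [Module.End.one_eq_id, LinearMap.ker_id]
  | succ k ih =>
    let f : LinearMap.ker (Z ^ (k + 1)) →ₗ[K] LinearMap.ker (Z ^ k) :=
      Z.restrict (fun u hu => by
        rw [LinearMap.mem_ker] at hu ⊢
        rw [← Module.End.mul_apply, ← pow_succ, hu])
    have h1 := LinearMap.finrank_range_add_finrank_ker f
    have h2 : finrank K (LinearMap.range f) ≤ k := (Submodule.finrank_le _).trans ih
    have h3 : finrank K (LinearMap.ker f) ≤ 1 := by
      refine le_trans (LinearMap.finrank_le_finrank_of_injective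
        (f := (((LinearMap.ker (Z ^ (k + 1))).subtype.comp (LinearMap.ker f).subtype).codRestrict
          (LinearMap.ker Z) fun u => ?_)) ?_) h
      · exact LinearMap.mem_ker.2 (congrArg Subtype.val (LinearMap.mem_ker.1 u.2) :)
      · intro a b hab
        exact Subtype.ext (Subtype.ext (congrArg Subtype.val hab :))
    omega

include hA hcomm in
/-- If the index is `p ^ m - 1`, so is the dimension. -/
theorem finrank_eq_of_pow_eq_zero [FiniteDimensional K U] [Nontrivial U] (hA1 : A ≠ 1)
    (hr : (A - 1) ^ (p ^ m - 1) = 0) : finrank K U = p ^ m - 1 := by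
  classical
  set Z := A - 1 with hZ
  obtain ⟨s, hs⟩ : ∃ s, s + 1 = p ^ m - 1 := ⟨p ^ m - 2, by
    rcases Nat.eq_zero_or_pos (p ^ m - 1) with h0 | h0
    · rw [h0, pow_zero] at hr; exact absurd hr one_ne_zero
    · omega⟩
  have hjne : Z ^ s ≠ 0 := fun h => by
    have := le_of_pow_eq_zero hA hcomm hA1 h
    omega
  have hsp : Z ^ (s + 1) = 0 := hs.symm ▸ hr
  obtain ⟨v, hv⟩ : ∃ u, (Z ^ s) u ≠ 0 := not_forall.1 fun h => hjne (LinearMap.ext h)
  obtain ⟨φ₀, hφ₀⟩ := Module.Projective.exists_dual_ne_zero K hv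
  set φ := (φ₀ ((Z ^ s) v))⁻¹ • φ₀ with hφdef
  have hφ : φ ((Z ^ s) v) = 1 := by simp [φ, hφ₀]
  set π : Module.End K U :=
    ∑ k ∈ Finset.range (s + 1), (φ.comp (Z ^ (s - k))).smulRight ((Z ^ k) v) with hπ
  have hπapp : ∀ u, π u = ∑ k ∈ Finset.range (s + 1), φ ((Z ^ (s - k)) u) • (Z ^ k) v := fun u => by
    simp [hπ]
  have hpw : ∀ (k : ℕ) (u : U), (Z ^ k) (Z u) = (Z ^ (k + 1)) u := fun k u => by
    rw [pow_succ, Module.End.mul_apply]
  have hpw' : ∀ (k : ℕ) (u : U), Z ((Z ^ k) u) = (Z ^ (k + 1)) u := fun k u => by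
    rw [pow_succ', Module.End.mul_apply]
  have hπZ : Z * π = π * Z := by
    ext u
    simp only [Module.End.mul_apply, hπapp, map_sum, map_smul, hpw, hpw']
    rw [Finset.sum_range_succ, hsp, LinearMap.zero_apply, smul_zero, add_zero,
      Finset.sum_range_succ' _ s]
    simp only [Nat.sub_zero, hsp, LinearMap.zero_apply, map_zero, zero_smul, add_zero]
    refine Finset.sum_congr rfl fun k hk => ?_
    rw [show s - (k + 1) + 1 = s - k by simp at hk; omega]
  have hπA : A * π = π * A := by
    rw [show A = Z + 1 by simp [hZ], add_mul, mul_add, hπZ, one_mul, mul_one]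
  obtain ⟨a, F, haF⟩ := hcomm π hπA
  rw [trace_eq_nilpotent hA, ← hZ] at haF
  -- the trace kills the fixed vectors
  have hker : ∀ u, Z u = 0 → π u = a • u := by
    intro u hu
    rw [haF, LinearMap.add_apply, LinearMap.smul_apply, Module.End.one_apply, LinearMap.coe_sum,
      Finset.sum_apply, Finset.sum_eq_zero, add_zero]
    intro k hk
    have := Finset.mem_range.1 hk
    by_cases hlast : k = p ^ m - 1
    · rw [hlast, ← hs, hsp]; simp
    · rw [show p ^ m - 1 - k = (p ^ m - 1 - k - 1) + 1 by omega]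
      simp only [pow_succ, Module.End.mul_apply, hu, map_zero]
  have hπker : ∀ u, Z u = 0 → π u = φ u • (Z ^ s) v := by
    intro u hu
    rw [hπapp, Finset.sum_range_succ, Finset.sum_eq_zero, zero_add, Nat.sub_self, pow_zero,
      Module.End.one_apply]
    intro k hk
    rw [show s - k = (s - k - 1) + 1 by simp at hk; omega, ← hpw, hu, map_zero, map_zero, zero_smul]
  have hw : Z ((Z ^ s) v) = 0 := by rw [hpw', hsp, LinearMap.zero_apply]
  have ha : a = 1 := by
    have h1 := (hker _ hw).symm.trans (hπker _ hw)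
    rw [hφ, one_smul] at h1
    by_contra hne
    apply hv
    have h2 : (a - 1) • (Z ^ s) v = 0 := by rw [sub_smul, one_smul, h1, sub_self]
    exact (smul_eq_zero.1 h2).resolve_left (sub_ne_zero.2 hne)
  have hdim : finrank K (LinearMap.ker Z) ≤ 1 := by
    refine (Submodule.finrank_mono (t := K ∙ (Z ^ s) v) fun u hu => ?_).trans
      (finrank_span_singleton hv).le
    rw [LinearMap.mem_ker] at hu
    rw [Submodule.mem_span_singleton]
    exact ⟨φ u, by rw [← hπker u hu, hker u hu, ha, one_smul]⟩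
  refine le_antisymm ?_ ?_
  · have := finrank_ker_pow_le Z hdim (s + 1)
    rw [hsp, LinearMap.ker_zero, finrank_top] at this
    omega
  · -- the vectors `Z ^ k v` are independent
    rw [← hs]
    have hli : LinearIndependent K fun k : Fin (s + 1) => (Z ^ (k : ℕ)) v := by
      rw [Fintype.linearIndependent_iff]
      intro g hg
      by_contra hne
      push Not at hne
      obtain ⟨i₀, hi₀⟩ := hne
      obtain ⟨i, hi, hmin⟩ := Finset.exists_min_image (Finset.univ.filter fun k => g k ≠ 0)
        (fun k : Fin (s + 1) => (k : ℕ)) ⟨i₀, by simpa using hi₀⟩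
      simp only [Finset.mem_filter, Finset.mem_univ, true_and] at hi hmin
      have h1 := congrArg (Z ^ (s - i)) hg
      rw [map_sum, map_zero, Finset.sum_eq_single i] at h1
      · rw [map_smul, ← Module.End.mul_apply, ← pow_add, Nat.sub_add_cancel (Nat.le_of_lt_succ i.2)]
          at h1
        exact hi ((smul_eq_zero.1 h1).resolve_right hv)
      · intro k _ hki
        by_cases hk : g k = 0
        · simp [hk]
        · have := hmin k hk
          have : (i : ℕ) < k := lt_of_le_of_ne this fun e => hki (Fin.ext e.symm)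
          rw [map_smul, ← Module.End.mul_apply, ← pow_add,
            pow_eq_zero_of_le (show s + 1 ≤ s - i + k by omega) hsp, LinearMap.zero_apply, smul_zero]
      · simp
    simpa using hli.fintype_card_le_finrank

end Cfsg.Agent.Lib.HallHigmanB
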