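import Cfsg.Agent.Lib.Coprime.Sylow
import Cfsg.Agent.Lib.Coprime.Quotient
import Cfsg.Agent.Lib.Coprime.ThreeSubgroup

/-!
# A minimal invariant `q`-subgroup moved by a given `p`-element
-/

set_option autoImplicit false

namespace Cfsg.Agent.Lib.HallHigmanB

open Subgroup

variable {H : Type*} [Group H] [Finite H] {p : ℕ} [Fact p.Prime]

theorem centralizer_zpowers_eq_singleton (y : H) :
    centralizer (zpowers y : Set H) = centralizer ({y} : Set H) := by
  rw [zpowers_eq_closure, centralizer_closure]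

/-- A fixed element of `Q = [Q, y]` lies in the derived subgroup. -/
theorem mem_commutator_of_fixed {Q : Subgroup H} {y : H}
    (hy : y ∈ normalizer (Q : Set H)) (hQy : ⁅Q, zpowers y⁆ = Q) {g : H} (hg : g ∈ Q)
    (hfix : y * g * y⁻¹ = g) : g ∈ ⁅Q, Q⁆ := by
  let f : Q →* Abelianization Q := Abelianization.of
  let φ : MulAut Q := normalizerMonoidHom Q ⟨y, hy⟩
  have hφ : ∀ (i : ℕ) (a : Q), ((φ ^ i) a : H) = y ^ i * a * (y ^ i)⁻¹ := fun i a => by
    show (((normalizerMonoidHom Q ⟨y, hy⟩) ^ i) a : H) = _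
    rw [← map_pow, normalizerMonoidHom_apply_apply_coe]
    rfl
  let ψ : Q →* Abelianization Q :=
    { toFun := fun a => f (φ a) / f a
      map_one' := by simp
      map_mul' := fun a b => by simp only [map_mul]; exact mul_div_mul_comm _ _ _ _ }
  have hstep : ∀ (i : ℕ) (a : Q), f ((φ ^ i) a) / f a ∈ ψ.range := by
    intro i
    induction i with
    | zero => intro a; simp [one_mem]
    | succ i ih =>
      intro a
      rw [pow_succ', MulAut.mul_apply, ← div_mul_div_cancel (f (φ ((φ ^ i) a))) (f ((φ ^ i) a)) (f a)]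
      exact mul_mem ⟨(φ ^ i) a, rfl⟩ (ih a)
  have htop : ψ.range = ⊤ := by
    rw [eq_top_iff]
    intro z _
    obtain ⟨a, rfl⟩ := Quotient.exists_rep z
    have hle : Q ≤ (ψ.range.comap f).map Q.subtype := by
      conv_lhs => rw [← hQy]
      rw [commutator_le]
      intro b hb c hc
      obtain ⟨i, rfl⟩ := (mem_powers_iff_mem_zpowers (x := y) (y := c)).2 hc
      refine ⟨⟨b, hb⟩ * ((φ ^ i) ⟨b, hb⟩)⁻¹, ?_, ?_⟩
      · have h1 := inv_mem (hstep i ⟨b, hb⟩)
        rw [inv_div] at h1
        rw [SetLike.mem_coe, mem_comap, map_mul, map_inv, ← div_eq_mul_inv]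
        exact h1
      · rw [coe_subtype, coe_mul, coe_inv, hφ, commutatorElement_def]
        group
    obtain ⟨a', ha', he⟩ := hle a.2
    rw [show a = a' from Subtype.ext he.symm]
    exact ha'
  have hker : ψ.ker = commutator Q := by
    have hle : commutator Q ≤ ψ.ker := Abelianization.commutator_subset_ker ψ
    have h1 : ψ.ker.index = (commutator Q).index := by
      rw [index_ker, htop, card_top]
      rfl
    exact (eq_of_le_of_card_ge hle (by
      have h2 := card_mul_index ψ.ker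
      have h3 := card_mul_index (commutator Q)
      rw [h1] at h2
      exact le_of_eq (Nat.eq_of_mul_eq_mul_right
        (Nat.pos_of_ne_zero index_ne_zero_of_finite) (h2.trans h3.symm)))).symm
  have hmem : (⟨g, hg⟩ : Q) ∈ commutator Q := by
    rw [← hker, MonoidHom.mem_ker]
    show f (φ _) / f _ = 1
    have : φ ⟨g, hg⟩ = ⟨g, hg⟩ := Subtype.ext (by
      have := hφ 1 ⟨g, hg⟩
      rw [pow_one, pow_one] at this
      rw [this]; exact hfix)
    rw [this, div_self']
  rw [← map_subtype_commutator]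
  exact ⟨⟨g, hg⟩, hmem, rfl⟩

/-- The minimal configuration. -/
theorem exists_critical {O : Subgroup H} {x y : H} (hxO : x ∈ normalizer (O : Set H))
    (hyx : y ∈ zpowers x) {n : ℕ} (hxn : x ^ p ^ n = 1) (hO : (Nat.card O).Coprime p)
    (hy : ¬ O ≤ centralizer {y}) :
    ∃ (q : ℕ) (Q : Subgroup H), q.Prime ∧ q ≠ p ∧ Q ≤ O ∧ IsPGroup q Q ∧
      x ∈ normalizer (Q : Set H) ∧ (∀ g ∈ Q, y * g * y⁻¹ = g → ∀ h ∈ Q, g * h = h * g) ∧
      ∃ g ∈ Q, y * g * y⁻¹ ≠ g := by
  classical
  set A := zpowers x with hA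
  have hAO : A ≤ normalizer (O : Set H) := zpowers_le.2 hxO
  have hcop : (Nat.card A).Coprime (Nat.card O) := by
    rw [hA, Nat.card_zpowers]
    exact ((hO.symm.pow_left n).coprime_dvd_left (orderOf_dvd_of_pow_eq_one hxn))
  have hsol : Group.IsSolvable A := inferInstance
  -- some invariant Sylow subgroup is moved
  obtain ⟨q, hq, P, hP, hPy⟩ : ∃ q : ℕ, ∃ _ : Fact q.Prime, ∃ P : Sylow q O,
      A ≤ normalizer (((P : Subgroup O).map O.subtype : Subgroup H) : Set H) ∧
        ¬ (P : Subgroup O).map O.subtype ≤ centralizer {y} := by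
    by_contra hall
    push Not at hall
    refine hy ?_
    have hdvd : Nat.card O ∣ Nat.card (O ⊓ centralizer {y} : Subgroup H) := by
      rw [Nat.dvd_iff_prime_pow_dvd_dvd]
      intro q k hq hk
      haveI := Fact.mk hq
      obtain ⟨P, hP⟩ := Coprime.exists_invariant_sylow (p := q) hAO hcop (Or.inl hsol)
      refine dvd_trans ?_ (card_dvd_of_le (le_inf (map_subtype_le (P : Subgroup O))
        (hall q ⟨hq⟩ P hP)))
      rw [card_map_of_injective O.subtype_injective]
      exact P.pow_dvd_card_of_pow_dvd_card hk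
    have := eq_of_le_of_card_ge (inf_le_left : O ⊓ centralizer {y} ≤ O)
      (Nat.le_of_dvd Nat.card_pos hdvd)
    exact this.ge.trans inf_le_right
  have hqp : q ≠ p := by
    rintro rfl
    refine hPy ?_
    have hP0 : (P : Subgroup O) = ⊥ := by
      obtain ⟨k, hk⟩ := P.2.exists_card_eq
      rcases Nat.eq_zero_or_pos k with h0 | h0
      · exact eq_bot_of_card_eq _ (by rw [hk, h0, pow_zero])
      · exfalso
        refine (Nat.Prime.coprime_iff_not_dvd hq.out).1 hO.symm ?_
        exact (dvd_pow_self q h0.ne').trans (hk ▸ card_subgroup_dvd_card _)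
    rw [hP0, Subgroup.map_bot]
    exact bot_le
  obtain ⟨Q, ⟨hQO, hQp, hQx, hQy⟩, hmin⟩ := (wellFounded_lt (α := Subgroup H)).has_min
    {Q | Q ≤ O ∧ IsPGroup q Q ∧ x ∈ normalizer (Q : Set H) ∧ ¬ Q ≤ centralizer {y}}
    ⟨(P : Subgroup O).map O.subtype, map_subtype_le _, P.2.map _, hP (mem_zpowers x), hPy⟩
  have hmin' : ∀ R, R ≤ Q → R ≠ Q → x ∈ normalizer (R : Set H) → R ≤ centralizer {y} := by
    intro R h1 h2 h3
    by_contra h4
    exact hmin R ⟨h1.trans hQO, hQp.to_le h1, h3, h4⟩ (lt_of_le_of_ne h1 h2)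
  have hAQ : A ≤ normalizer (Q : Set H) := zpowers_le.2 hQx
  have hyQ : zpowers y ≤ normalizer (Q : Set H) := (zpowers_le.2 hyx).trans hAQ
  have hyA : A ≤ normalizer (zpowers y : Set H) := by
    refine le_trans ?_ (centralizer_le_normalizer _)
    rw [centralizer_zpowers_eq_singleton, hA, zpowers_le, mem_centralizer_singleton_iff]
    obtain ⟨i, rfl⟩ := mem_zpowers_iff.1 hyx
    exact (Commute.zpow_self x i).eq.symm
  have hcopQ : (Nat.card (zpowers y)).Coprime (Nat.card Q) :=
    (hcop.coprime_dvd_left (card_dvd_of_le (zpowers_le.2 hyx))).coprime_dvd_right (card_dvd_of_le hQO)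
  have hQeq : ⁅Q, zpowers y⁆ = Q := by
    by_contra hne
    have h1 := hmin' _ (Coprime.commutator_le_of_le_normalizer hyQ) hne
      (Coprime.le_normalizer_commutator hAQ hyA (mem_zpowers x))
    have h2 : ⁅⁅Q, zpowers y⁆, zpowers y⁆ = ⊥ := by
      rw [commutator_eq_bot_iff_le_centralizer, centralizer_zpowers_eq_singleton]
      exact h1
    have h3 := Coprime.commutator_eq_bot_of_commutator_commutator_eq_bot hyQ hcopQ h2
    rw [commutator_eq_bot_iff_le_centralizer, centralizer_zpowers_eq_singleton] at h3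
    exact hQy h3
  haveI := hq
  have hQne : Q ≠ ⊥ := fun h => hQy (h ▸ bot_le)
  have hD : ⁅Q, Q⁆ < Q := Coprime.commutator_lt_of_isPGroup hQp hQp le_normalizer hQne
  have hDy : ⁅Q, Q⁆ ≤ centralizer {y} :=
    hmin' _ hD.le hD.ne (Coprime.le_normalizer_commutator hAQ hAQ (mem_zpowers x))
  have hDQ : ⁅⁅Q, Q⁆, Q⁆ = ⊥ := by
    have h1 : ⁅⁅zpowers y, ⁅Q, Q⁆⁆, Q⁆ = ⊥ := by
      rw [show ⁅zpowers y, ⁅Q, Q⁆⁆ = ⊥ by
        rw [commutator_comm, commutator_eq_bot_iff_le_centralizer, centralizer_zpowers_eq_singleton]; exact hDy,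
        commutator_bot_left]
    have h2 : ⁅⁅⁅Q, Q⁆, Q⁆, zpowers y⁆ = ⊥ := by
      rw [commutator_eq_bot_iff_le_centralizer, centralizer_zpowers_eq_singleton]
      exact ((commutator_mono hD.le le_rfl)).trans hDy
    have h3 := commutator_commutator_eq_bot_of_rotate h1 h2
    rw [hQeq, commutator_comm] at h3
    exact h3
  refine ⟨q, Q, hq.out, hqp, hQO, hQp, hQx, fun g hg hfix h hh => ?_, ?_⟩
  · have hgD := mem_commutator_of_fixed (hyQ (mem_zpowers y)) hQeq hg hfix
    exact (mem_centralizer_iff.1 (commutator_eq_bot_iff_le_centralizer.1 hDQ hgD) h hh).symm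
  · by_contra hall
    push Not at hall
    refine hQy fun g hg => ?_
    rw [mem_centralizer_singleton_iff]
    exact (mul_inv_eq_iff_eq_mul.1 (hall g hg)).symm

end Cfsg.Agent.Lib.HallHigmanB
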