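import Cfsg.Agent.Lib.HallHigmanB.Main
import Cfsg.Agent.Lib.HallHigmanB.Select
import Cfsg.Agent.Lib.PSolvable.DualHallHigman

/-!
# The Hall–Higman theorem B for `p`-solvable linear groups
-/

set_option autoImplicit false

namespace Cfsg.Agent.Lib.HallHigmanB

open TensorProduct

universe u v

/-- The exceptional conclusion. -/
def Exceptional {G : Type*} [Group G] (p n r : ℕ) : Prop :=
  ∃ a m q b : ℕ, a + m = n ∧ 1 ≤ m ∧ q.Prime ∧ 1 ≤ b ∧ p ^ m - 1 = q ^ b ∧
    p ^ a * (p ^ m - 1) ≤ r ∧ ∀ Q : Sylow q G, ¬ IsMulCommutative (Q : Subgroup G)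

/-- **Hall–Higman, Theorem B.** -/
theorem bound_linear {F : Type u} [Field F] {p : ℕ} [Fact p.Prime] [CharP F p] {V : Type v}
    [AddCommGroup V] [Module F V] [FiniteDimensional F V] {H : Type*} [Group H] [Finite H]
    (hsol : Cfsg.IsPSolvable p H) (hOp : Cfsg.pCore p H = ⊥) (ρ₀ : H →* Module.End F V)
    (hρ₀ : Function.Injective ρ₀) {x : H} {n : ℕ} (hn : 1 ≤ n) (hx : orderOf x = p ^ n) {r : ℕ}
    (hr : (ρ₀ x - 1) ^ r = 0) : p ^ n ≤ r ∨ Exceptional (G := H) p n r := by
  classical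
  have hp : p.Prime := Fact.out
  set y := x ^ p ^ (n - 1) with hy
  have hxn : x ^ p ^ n = 1 := hx ▸ pow_orderOf_eq_one x
  have hy1 : y ≠ 1 := pow_ne_one_of_lt_orderOf (pow_ne_zero _ hp.ne_zero)
    (hx ▸ Nat.pow_lt_pow_right hp.one_lt (by omega))
  set O := Cfsg.pPrimeCore p H with hO
  haveI : O.Normal := @Subgroup.normal_of_characteristic _ _ _ PSolvable.pPrimeCore_characteristic
  have hyO : ¬ O ≤ Subgroup.centralizer {y} := by
    intro h
    have h1 : y ∈ O := by
      refine PSolvable.centralizer_pPrimeCore_le_of_isPSolvable hsol hOp ?_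
      rw [Subgroup.mem_centralizer_iff]
      intro o ho
      exact Subgroup.mem_centralizer_singleton_iff.1 (h ho)
    apply hy1
    rw [← orderOf_eq_one_iff]
    refine Nat.eq_one_of_dvd_coprimes (a := Nat.card O) (b := p ^ n)
      (Nat.Coprime.pow_right n PSolvable.pPrimeCore_coprime) (Subgroup.orderOf_dvd_natCard _ h1) ?_
    exact hx ▸ orderOf_pow_dvd _
  obtain ⟨q, Q, hq, hqp, -, hQ, hxQ, hcen, g₀, hg₀, hne⟩ := exists_critical
    (y := y) (by rw [Subgroup.normalizer_eq_top_iff.mpr inferInstance]; exact Subgroup.mem_top x)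
    (Subgroup.npow_mem_zpowers x _) hxn PSolvable.pPrimeCore_coprime hyO
  haveI := Fact.mk hq
  -- work in `Q⟨x⟩` over the algebraic closure
  set L := Q ⊔ Subgroup.zpowers x with hL
  have hxL : x ∈ L := Subgroup.mem_sup_right (Subgroup.mem_zpowers x)
  have hQL : Q ≤ L := le_sup_left
  let K := AlgebraicClosure F
  haveI : CharP K p := charP_of_injective_algebraMap (algebraMap F K).injective p
  let β : Module.End F V →ₐ[F] Module.End K (K ⊗[F] V) := Module.End.baseChangeHom F K V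
  let ρ : L →* Module.End K (K ⊗[F] V) := (β.toRingHom.toMonoidHom).comp (ρ₀.comp L.subtype)
  have hβ : Function.Injective β := LinearMap.baseChangeHom_injective F V K
  have hgen : (Q.subgroupOf L) ⊔ Subgroup.zpowers (⟨x, hxL⟩ : L) = ⊤ := by
    apply Subgroup.map_injective L.subtype_injective
    rw [Subgroup.map_sup, Subgroup.map_subgroupOf_eq_of_le hQL, MonoidHom.map_zpowers,
      ← MonoidHom.range_eq_map, Subgroup.range_subtype]
    rfl
  have hb := bound (K := K) (p := p) (q := q) hqp (Q.subgroupOf L) hQ.comap_subtype ⟨x, hxL⟩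
    (by
      rw [Subgroup.mem_normalizer_iff]
      intro h
      exact (Subgroup.mem_normalizer_iff.1 hxQ (h : H)))
    hgen hn (Subtype.ext hxn)
    (fun g hg hfix h hh => Subtype.ext (hcen g hg (congrArg Subtype.val hfix) h hh))
    ρ ⟨⟨g₀, hQL hg₀⟩, hg₀, fun e => hne (hρ₀ (hβ e))⟩ r (by
      show (β (ρ₀ x) - 1) ^ r = 0
      have h := congrArg β hr
      simpa only [map_pow, map_sub, map_one, map_zero] using h)
  refine hb.imp_right ?_
  rintro ⟨a, m, b, h1, h2, h3, h4, h5, g, hg, h, hh, hgh⟩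
  refine ⟨a, m, q, b, h1, h2, hq, h3, h4, h5, fun S hS => hgh (Subtype.ext ?_)⟩
  obtain ⟨T, hT⟩ := hQ.exists_le_sylow
  obtain ⟨c, hc⟩ := MulAction.exists_smul_eq H T S
  have hmem : ∀ u ∈ Q, c * u * c⁻¹ ∈ (S : Subgroup H) := fun u hu => by
    rw [← hc, Sylow.coe_subgroup_smul]
    exact Subgroup.smul_mem_pointwise_smul _ (MulAut.conj c) _ (hT hu)
  have := congrArg Subtype.val (hS.is_comm.comm ⟨_, hmem _ hg⟩ ⟨_, hmem _ hh⟩)
  refine mul_right_cancel (b := c⁻¹) ?_
  simpa [mul_assoc] using this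

end Cfsg.Agent.Lib.HallHigmanB
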