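import Cfsg.Agent.Lib.HallHigmanB.Average
import Cfsg.Agent.Lib.HallHigmanB.Clifford

/-!
# The orbit of an irreducible subspace; degrees of irreducible `q`-groups
-/

set_option autoImplicit false

namespace Cfsg.Agent.Lib.HallHigmanB

open Module

variable {K V G : Type*} [Field K] [AddCommGroup V] [Module K V] [Group G]
variable {ρ : G →* Module.End K V} {Q : Subgroup G}

theorem map_eq_self_of_irred {W : Submodule K V} (hW : IrredSub ρ Q W) {t : G}
    (ht : t ∈ Subgroup.normalizer (Q : Set G)) (h : ∀ u ∈ W, ρ t u ∈ W) : W.map (ρ t) = W :=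
  (hW.2.2 _ (Submodule.map_le_iff_le_comap.2 h) (invt_map ht hW.2.1)).resolve_left
    (irredSub_map ht hW).1

theorem map_pow_mul_eq {W : Submodule K V} {t : G} {j : ℕ} (h : W.map (ρ (t ^ j)) = W) (a : ℕ) :
    W.map (ρ (t ^ (j * a))) = W := by
  induction a with
  | zero => rw [mul_zero, pow_zero, map_one, Module.End.one_eq_id, Submodule.map_id]
  | succ a ih => rw [mul_add, mul_one, pow_add, ← map_map_mul, h, ih]

/-- An irreducible subspace with smallest linked period. -/
theorem exists_orbit [IsAlgClosed K] [FiniteDimensional K V] [Nontrivial V] {t : G}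
    (ht : t ∈ Subgroup.normalizer (Q : Set G)) {T : ℕ} (hT : 0 < T)
    (hper : ∀ W, IrredSub ρ Q W → Linked ρ Q W (W.map (ρ (t ^ T)))) :
    ∃ (W : Submodule K V) (j : ℕ), IrredSub ρ Q W ∧ 0 < j ∧ j ∣ T ∧ W.map (ρ (t ^ j)) = W ∧
      ∀ i, 0 < i → i < j → ¬ Linked ρ Q W (W.map (ρ (t ^ i))) := by
  classical
  obtain ⟨W₀, -, hW₀⟩ := exists_irredSub (ρ := ρ) (Q := Q) (W := ⊤) top_ne_bot
    fun g _ v _ => Submodule.mem_top
  have hex : ∃ j, 0 < j ∧ ∃ W, IrredSub ρ Q W ∧ Linked ρ Q W (W.map (ρ (t ^ j))) :=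
    ⟨T, hT, W₀, hW₀, hper _ hW₀⟩
  set j := Nat.find hex
  obtain ⟨hj, W, hW, hlink⟩ := Nat.find_spec hex
  obtain ⟨U, hU, -, hUinv⟩ := exists_invariant_copy hW (pow_mem ht j) hlink
  have hUeq := map_eq_self_of_irred hU (pow_mem ht j) hUinv
  have hmin : ∀ i, 0 < i → i < j → ¬ Linked ρ Q U (U.map (ρ (t ^ i))) := fun i hi hij h =>
    Nat.find_min hex hij ⟨hi, U, hU, h⟩
  refine ⟨U, j, hU, hj, ?_, hUeq, hmin⟩
  rw [Nat.dvd_iff_mod_eq_zero]
  by_contra hne
  refine hmin (T % j) (Nat.pos_of_ne_zero hne) (Nat.mod_lt _ hj) ?_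
  have h := hper U hU
  rwa [← Nat.mod_add_div T j, pow_add, ← map_map_mul, map_pow_mul_eq hUeq] at h

variable {W : Submodule K V} {t : G} {j : ℕ}

theorem not_linked_pow [FiniteDimensional K V] (hW : IrredSub ρ Q W)
    (ht : t ∈ Subgroup.normalizer (Q : Set G))
    (hmin : ∀ i, 0 < i → i < j → ¬ Linked ρ Q W (W.map (ρ (t ^ i)))) :
    ∀ i k, i < j → k < j → i ≠ k → ¬ Linked ρ Q (W.map (ρ (t ^ i))) (W.map (ρ (t ^ k))) := by
  have aux : ∀ i k, k < j → i < k →
      ¬ Linked ρ Q (W.map (ρ (t ^ i))) (W.map (ρ (t ^ k))) := fun i k hk hik h => by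
    have h1 := h.map (inv_mem (pow_mem ht i)) (irredSub_map (pow_mem ht i) hW).2.1
    rw [map_map_inv, map_map_mul, show (t ^ i)⁻¹ * t ^ k = t ^ (k - i) by
      rw [eq_comm, eq_inv_mul_iff_mul_eq, ← pow_add, Nat.add_sub_cancel' hik.le]] at h1
    exact hmin (k - i) (by omega) (by omega) h1
  intro i k hi hk hne h
  rcases Nat.lt_or_gt_of_ne hne with hlt | hlt
  · exact aux i k hk hlt h
  · exact aux k i hi hlt (h.symm (irredSub_map (pow_mem ht i) hW) (irredSub_map (pow_mem ht k) hW))

theorem disjoint_sup [FiniteDimensional K V] (hW : IrredSub ρ Q W)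
    (ht : t ∈ Subgroup.normalizer (Q : Set G))
    (hmin : ∀ i, 0 < i → i < j → ¬ Linked ρ Q W (W.map (ρ (t ^ i))))
    {k : ℕ} (hk : k < j) (s : Finset ℕ) (hs : ∀ i ∈ s, i < j ∧ i ≠ k) :
    W.map (ρ (t ^ k)) ⊓ s.sup (fun i => W.map (ρ (t ^ i))) = ⊥ := by
  have hWk := irredSub_map (pow_mem ht k) hW
  by_contra hne
  have hS : Invt ρ Q (s.sup fun i => W.map (ρ (t ^ i))) := by
    intro g hg v hv
    have : (s.sup fun i => W.map (ρ (t ^ i))) ≤
        (s.sup fun i => W.map (ρ (t ^ i))).comap (ρ g) :=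
      Finset.sup_le fun i hi w hw => Submodule.mem_comap.2
        (SetLike.le_def.1 (Finset.le_sup hi) ((irredSub_map (pow_mem ht i) hW).2.1 g hg w hw))
    exact this hv
  have heq := (hWk.2.2 _ inf_le_left
    fun g hg w hw => ⟨hWk.2.1 g hg w hw.1, hS g hg w hw.2⟩).resolve_left hne
  obtain ⟨i, hi, h⟩ := exists_linked_of_le_sup hWk (fun i => W.map (ρ (t ^ i))) s
    (fun i _ => irredSub_map (pow_mem ht i) hW) (heq ▸ inf_le_right)
  exact not_linked_pow hW ht hmin k i hk (hs i hi).1 (hs i hi).2.symm h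

/-- The vectors `t ^ i w` of an orbit are independent. -/
theorem eq_zero_of_sum_eq_zero [FiniteDimensional K V] (hW : IrredSub ρ Q W)
    (ht : t ∈ Subgroup.normalizer (Q : Set G))
    (hmin : ∀ i, 0 < i → i < j → ¬ Linked ρ Q W (W.map (ρ (t ^ i)))) (hj : 0 < j) {w : V} (hw : w ∈ W)
    (h : ∑ i ∈ Finset.range j, ρ (t ^ i) w = 0) : w = 0 := by
  obtain ⟨j', rfl⟩ := Nat.exists_eq_succ_of_ne_zero hj.ne'
  rw [Finset.sum_range_succ', pow_zero, map_one, Module.End.one_apply] at h
  have hmem : w ∈ W.map (ρ (t ^ 0)) ⊓ (Finset.Ico 1 (j' + 1)).sup fun i => W.map (ρ (t ^ i)) := by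
    refine ⟨by simpa using hw, ?_⟩
    have e : w = -∑ i ∈ Finset.range j', ρ (t ^ (i + 1)) w := eq_neg_of_add_eq_zero_right h
    rw [e]
    refine neg_mem (Submodule.sum_mem _ fun i hi => ?_)
    exact SetLike.le_def.1 (Finset.le_sup (f := fun i => W.map (ρ (t ^ i)))
      (show i + 1 ∈ Finset.Ico 1 (j' + 1) by simp at hi ⊢; omega)) (Submodule.mem_map_of_mem hw)
  rwa [disjoint_sup hW ht hmin hj _ (fun i hi => by simp at hi; omega), Submodule.mem_bot] at hmem

theorem finrank_orbit [FiniteDimensional K V] (hW : IrredSub ρ Q W)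
    (ht : t ∈ Subgroup.normalizer (Q : Set G))
    (hmin : ∀ i, 0 < i → i < j → ¬ Linked ρ Q W (W.map (ρ (t ^ i)))) :
    ∀ k ≤ j, finrank K ((Finset.range k).sup fun i => W.map (ρ (t ^ i)) : Submodule K V) =
      k * finrank K W := by
  intro k
  induction k with
  | zero => intro _; rw [Finset.range_zero, Finset.sup_empty, finrank_bot, zero_mul]
  | succ k ih =>
    intro hk
    rw [Finset.range_add_one, Finset.sup_insert]
    have h := Submodule.finrank_sup_add_finrank_inf_eq (W.map (ρ (t ^ k)))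
      ((Finset.range k).sup fun i => W.map (ρ (t ^ i)))
    rw [disjoint_sup hW ht hmin (by omega) _ (fun i hi => by simp at hi; omega), finrank_bot,
      add_zero, ih (by omega)] at h
    have e : finrank K (W.map (ρ (t ^ k)) : Submodule K V) = finrank K W := by
      refine (LinearEquiv.finrank_eq (Submodule.equivMapOfInjective _ ?_ _)).symm
      intro a b hab
      have := congrArg (ρ (t ^ k)⁻¹) hab
      rwa [apply_inv_apply, apply_inv_apply] at this
    rw [h, e]
    ring

theorem invt_orbit (hW : IrredSub ρ Q W) (ht : t ∈ Subgroup.normalizer (Q : Set G)) :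
    Invt ρ Q ((Finset.range j).sup fun i => W.map (ρ (t ^ i))) := fun g hg v hv => by
  have : ((Finset.range j).sup fun i => W.map (ρ (t ^ i))) ≤
      ((Finset.range j).sup fun i => W.map (ρ (t ^ i))).comap (ρ g) :=
    Finset.sup_le fun i hi w hw => Submodule.mem_comap.2
      (SetLike.le_def.1 (Finset.le_sup hi) ((irredSub_map (pow_mem ht i) hW).2.1 g hg w hw))
  exact this hv

theorem orbit_invariant (hj : 0 < j) (hWj : W.map (ρ (t ^ j)) = W) :
    ∀ v ∈ ((Finset.range j).sup fun i => W.map (ρ (t ^ i))),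
      ρ t v ∈ ((Finset.range j).sup fun i => W.map (ρ (t ^ i))) := by
  intro v hv
  have : ((Finset.range j).sup fun i => W.map (ρ (t ^ i))) ≤
      ((Finset.range j).sup fun i => W.map (ρ (t ^ i))).comap (ρ t) := by
    refine Finset.sup_le fun i hi => ?_
    rw [← Submodule.map_le_iff_le_comap, map_map_mul, ← pow_succ']
    have hij := Finset.mem_range.1 hi
    rcases eq_or_lt_of_le (show i + 1 ≤ j by omega) with e | e
    · rw [e, hWj]
      refine le_trans ?_ (Finset.le_sup (f := fun i => W.map (ρ (t ^ i))) (Finset.mem_range.2 hj))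
      rw [pow_zero, map_one, Module.End.one_eq_id, Submodule.map_id]
    · exact Finset.le_sup (f := fun i => W.map (ρ (t ^ i))) (Finset.mem_range.2 e)
  exact this hv

theorem isIrred_restrictRep (hW : IrredSub ρ Q W) : IsIrred (restrictRep hW.2.1) := by
  intro S hS
  have hi : Invt ρ Q (S.map W.subtype) := by
    rintro g hg _ ⟨w, hw, rfl⟩
    exact ⟨restrictRep hW.2.1 ⟨g, hg⟩ w, hS ⟨g, hg⟩ w hw, rfl⟩
  rcases hW.2.2 _ (Submodule.map_subtype_le _ _) hi with h | h
  · left
    rw [eq_bot_iff]
    intro w hw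
    have : (w : V) ∈ S.map W.subtype := ⟨w, hw, rfl⟩
    rw [h, Submodule.mem_bot] at this
    exact Subtype.ext this
  · right
    rw [eq_top_iff]
    intro w _
    have : (w : V) ∈ S.map W.subtype := h.symm ▸ w.2
    obtain ⟨w', hw', he⟩ := this
    rwa [← Subtype.ext he]

universe u w

/-- The degree of an irreducible representation of a `q`-group is a power of `q`. -/
theorem exists_finrank_eq_pow {K : Type*} [Field K] [IsAlgClosed K] {q : ℕ} [hq : Fact q.Prime]
    (d : ℕ) : ∀ {Q : Type u} [Group Q] [Finite Q], Nat.card Q = q ^ d →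
    ∀ {U : Type w} [AddCommGroup U] [Module K U] [FiniteDimensional K U] [Nontrivial U]
      (σ : Q →* Module.End K U), IsIrred σ → ∃ b : ℕ, finrank K U = q ^ b := by
  induction d with
  | zero =>
    intro Q _ _ hQ U _ _ _ _ σ hσ
    refine ⟨0, ?_⟩
    haveI : Subsingleton Q := (Nat.card_eq_one_iff_unique.1 (by simpa using hQ)).1
    obtain ⟨v, hv⟩ := exists_ne (0 : U)
    rcases hσ (K ∙ v) (fun g w hw => by rw [Subsingleton.elim g 1, map_one]; exact hw) with h | h
    · exact absurd (Submodule.span_singleton_eq_bot.1 h) hv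
    · rw [pow_zero, ← finrank_top K U, ← h, finrank_span_singleton hv]
  | succ d ih =>
    intro Q _ _ hQ U _ _ _ _ σ hσ
    obtain ⟨M, hM⟩ := Sylow.exists_subgroup_card_pow_prime q (G := Q) (n := d)
      (hQ ▸ pow_dvd_pow q (Nat.le_succ d))
    have hidx : M.index = q := by
      have := M.card_mul_index
      rw [hM, hQ, pow_succ] at this
      exact Nat.eq_of_mul_eq_mul_left (pow_pos hq.out.pos d) this
    haveI hMn : M.Normal := Subgroup.normal_of_index_eq_minFac_card (by
      rw [hidx, hQ, Nat.pow_minFac (Nat.succ_ne_zero d), hq.out.minFac_eq])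
    obtain ⟨x, hx⟩ : ∃ x, x ∉ M := by
      by_contra h
      push Not at h
      rw [(Subgroup.eq_top_iff' M).2 h, Subgroup.index_top] at hidx
      exact hq.out.one_lt.ne hidx
    have htop : M ⊔ Subgroup.zpowers x = ⊤ := by
      have hdvd : (M ⊔ Subgroup.zpowers x).index ∣ M.index := Subgroup.index_dvd_of_le le_sup_left
      rw [hidx] at hdvd
      rcases (Nat.dvd_prime hq.out).1 hdvd with h | h
      · exact Subgroup.index_eq_one.1 h
      · exfalso
        have := Subgroup.relIndex_mul_index (H := M) (K := M ⊔ Subgroup.zpowers x) le_sup_left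
        rw [hidx, h] at this
        have h1 : M.relIndex (M ⊔ Subgroup.zpowers x) = 1 :=
          Nat.eq_of_mul_eq_mul_right hq.out.pos (by rw [this, one_mul])
        exact hx (Subgroup.relIndex_eq_one.1 h1
          (Subgroup.mem_sup_right (Subgroup.mem_zpowers x)))
    have hxn : x ∈ Subgroup.normalizer (M : Set Q) := by
      rw [Subgroup.normalizer_eq_top_iff.mpr hMn]; exact Subgroup.mem_top _
    have hxq : x ^ q ∈ M := hidx ▸ Subgroup.pow_index_mem M x
    obtain ⟨W, j, hW, hj, hjq, hWj, hmin⟩ := exists_orbit (ρ := σ) (Q := M) hxn hq.out.pos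
      fun W hW => by
        rw [map_eq_self_of_irred hW (pow_mem hxn q) fun u hu => hW.2.1 _ hxq u hu]
        exact Linked.refl hW
    haveI : Nontrivial W := Submodule.nontrivial_iff_ne_bot.2 hW.1
    obtain ⟨b, hb⟩ := ih hM (restrictRep hW.2.1) (isIrred_restrictRep hW)
    -- the sum of the orbit is everything
    set S := (Finset.range j).sup fun i => W.map (σ (x ^ i)) with hS
    have hSinv : ∀ g, ∀ v ∈ S, σ g v ∈ S := by
      intro g
      have hxS : S.map (σ x) = S := by
        refine Submodule.eq_of_le_of_finrank_eq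
          (Submodule.map_le_iff_le_comap.2 (orbit_invariant hj hWj)) ?_
        exact (LinearEquiv.finrank_eq (Submodule.equivMapOfInjective _
          (fun a b hab => by simpa [apply_inv_apply] using congrArg (σ x⁻¹) hab) _)).symm
      let St : Subgroup Q :=
        { carrier := {g | S.map (σ g) = S}
          mul_mem' := fun {a b} ha hb => by
            show S.map (σ (a * b)) = S
            rw [← map_map_mul, hb, ha]
          one_mem' := by
            show S.map (σ 1) = S
            rw [map_one, Module.End.one_eq_id, Submodule.map_id]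
          inv_mem' := fun {a} ha => by
            show S.map (σ a⁻¹) = S
            conv_lhs => rw [← (ha : S.map (σ a) = S)]
            exact map_map_inv σ S a }
      have hle : M ⊔ Subgroup.zpowers x ≤ St := by
        refine sup_le (fun m hm => ?_) ((Subgroup.zpowers_le).2 hxS)
        refine Submodule.eq_of_le_of_finrank_eq
          (Submodule.map_le_iff_le_comap.2 (invt_orbit hW hxn m hm)) ?_
        exact (LinearEquiv.finrank_eq (Submodule.equivMapOfInjective _
          (fun a b hab => by simpa [apply_inv_apply] using congrArg (σ m⁻¹) hab) _)).symm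
      rw [htop] at hle
      intro v hv
      rw [← (hle (Subgroup.mem_top g) : S.map (σ g) = S)]
      exact Submodule.mem_map_of_mem hv
    have hStop : S = ⊤ := by
      refine (hσ S hSinv).resolve_left fun h0 => hW.1 (le_bot_iff.1 (h0 ▸ ?_))
      refine le_trans ?_ (Finset.le_sup (f := fun i => W.map (σ (x ^ i))) (Finset.mem_range.2 hj))
      simp [Module.End.one_eq_id]
    have hf := finrank_orbit hW hxn hmin j le_rfl
    rw [← hS, hStop, finrank_top, hb] at hf
    rcases (Nat.dvd_prime hq.out).1 hjq with e | e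
    · exact ⟨b, by rw [hf, e, one_mul]⟩
    · exact ⟨b + 1, by rw [hf, e, pow_succ']⟩

end Cfsg.Agent.Lib.HallHigmanB
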