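import Cfsg.Agent.Lib.HallHigmanB.Jordan
import Cfsg.Agent.Lib.HallHigmanB.Orbit

/-!
# The Hall–Higman theorem B for a `q`-group extended by a cyclic `p`-group
-/

set_option autoImplicit false

namespace Cfsg.Agent.Lib.HallHigmanB

open Module Polynomial

section
variable {K : Type*} [Field K] {V : Type*} [AddCommGroup V] [Module K V] {p : ℕ} [Fact p.Prime]
  [CharP K p]

theorem sub_one_pow_pPow (x : Module.End K V) (a : ℕ) : (x - 1) ^ p ^ a = x ^ p ^ a - 1 := by
  have h := congrArg (aeval x) (sub_pow_char_pow (R := K[X]) (p := p) (x := X) (y := 1) a)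
  simpa using h

theorem sub_one_pow_pPow_sub_one (x : Module.End K V) (a : ℕ) :
    (x - 1) ^ (p ^ a - 1) = ∑ i ∈ Finset.range (p ^ a), x ^ i := by
  have hne : (X - 1 : K[X]) ≠ 0 := by simpa using X_sub_C_ne_zero (1 : K)
  have h : (X - 1 : K[X]) ^ (p ^ a - 1) = ∑ i ∈ Finset.range (p ^ a), X ^ i := by
    apply mul_right_cancel₀ hne
    rw [geom_sum_mul, ← pow_succ, Nat.sub_add_cancel (Nat.one_le_pow _ _ (Fact.out : p.Prime).pos),
      sub_pow_char_pow, one_pow]
  simpa using congrArg (aeval x) h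

end

theorem eq_one_of_unipotent {K V : Type*} [Field K] [AddCommGroup V] [Module K V]
    (f : Module.End K V) {N : ℕ} (hN : (N : K) ≠ 0) (hf : f ^ N = 1) (h : (f - 1) * (f - 1) = 0) :
    f = 1 := by
  have e : ∀ k : ℕ, f ^ k = 1 + (k : K) • (f - 1) := by
    intro k
    induction k with
    | zero => simp
    | succ k ih =>
      rw [pow_succ, ih, Nat.cast_succ, add_smul, one_smul]
      conv_lhs => rw [show f = 1 + (f - 1) by abel]
      rw [mul_add, mul_one, add_mul, one_mul, show 1 + (f - 1) - 1 = f - 1 by abel, smul_mul_assoc,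
        h, smul_zero, add_zero]
      abel
  have h1 := e N
  rw [hf] at h1
  have h2 : (N : K) • (f - 1) = 0 := by
    rw [← sub_self (1 : Module.End K V)]
    conv_rhs => arg 1; rw [h1]
    abel
  exact sub_eq_zero.1 ((smul_eq_zero.1 h2).resolve_left hN)

/-- The critical case. -/
theorem critical {K U Q : Type*} [Field K] [IsAlgClosed K] {p : ℕ} [Fact p.Prime] [CharP K p]
    [AddCommGroup U] [Module K U] [FiniteDimensional K U] [Nontrivial U] [Group Q] [Finite Q]
    {σ : Q →* Module.End K U} (hσ : IsIrred σ) (hQ : (Nat.card Q : K) ≠ 0)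
    {A : Module.End K U} {θ : MulAut Q} {m : ℕ}
    (hA : ∀ g, A * σ g = σ (θ g) * A) (hAN : A ^ p ^ m = 1) (hθN : θ ^ p ^ m = 1) (hA1 : A ≠ 1)
    (hfree : ∀ g, (∀ c : K, σ g ≠ c • 1) → ∀ k, 0 < k → k < p ^ m → (θ ^ k) g ≠ g) :
    (∀ r, (A - 1) ^ r = 0 → p ^ m - 1 ≤ r) ∧
      ((A - 1) ^ (p ^ m - 1) = 0 → finrank K U = p ^ m - 1) := by
  classical
  haveI := Fintype.ofFinite Q
  have hQ' : (Fintype.card Q : K) ≠ 0 := by rwa [← Nat.card_eq_fintype_card]
  have hcomm := exists_scalar_add_trace hσ hQ' (pow_pos (Fact.out : p.Prime).pos m) hA hAN hθN hfree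
  exact ⟨fun r hr => le_of_pow_eq_zero hAN hcomm hA1 hr,
    fun h => finrank_eq_of_pow_eq_zero hAN hcomm hA1 h⟩

/-- A lower bound `p ^ n ≤ r`, or the exceptional configuration. -/
def Bound {G : Type*} [Group G] (p q n r : ℕ) (Q : Subgroup G) : Prop :=
  p ^ n ≤ r ∨ ∃ a m b : ℕ, a + m = n ∧ 1 ≤ m ∧ 1 ≤ b ∧ p ^ m - 1 = q ^ b ∧
    p ^ a * (p ^ m - 1) ≤ r ∧ ∃ g ∈ Q, ∃ h ∈ Q, g * h ≠ h * g

universe w

variable {K : Type*} [Field K] [IsAlgClosed K] {p q : ℕ} [Fact p.Prime] [Fact q.Prime] [CharP K p]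
  {G : Type*} [Group G] [Finite G]

theorem bound_of_irreducible {V : Type w} [AddCommGroup V] [Module K V] [FiniteDimensional K V]
    [Nontrivial V] (hpq : q ≠ p) (Q : Subgroup G) (hQ : IsPGroup q Q) (x : G)
    (hxQ : x ∈ Subgroup.normalizer (Q : Set G)) {n : ℕ} (hn : 1 ≤ n) (hxn : x ^ p ^ n = 1)
    (hcen : ∀ g ∈ Q, x ^ p ^ (n - 1) * g * (x ^ p ^ (n - 1))⁻¹ = g → ∀ h ∈ Q, g * h = h * g)
    (ρ : G →* Module.End K V)
    (hirr : ∀ W : Submodule K V, Invt ρ Q W → (∀ v ∈ W, ρ x v ∈ W) → W = ⊥ ∨ W = ⊤)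
    (hne : ∃ g ∈ Q, ρ (x ^ p ^ (n - 1) * g * (x ^ p ^ (n - 1))⁻¹) ≠ ρ g)
    (r : ℕ) (hr : (ρ x - 1) ^ r = 0) : Bound p q n r Q := by
  classical
  have hp : p.Prime := Fact.out
  have hQne : (Nat.card Q : K) ≠ 0 := by
    obtain ⟨k, hk⟩ := hQ.exists_card_eq
    rw [hk, Nat.cast_pow]
    refine pow_ne_zero _ fun h => hpq ?_
    exact ((Nat.prime_dvd_prime_iff_eq hp Fact.out).1 ((CharP.cast_eq_zero_iff K p q).1 h)).symm
  obtain ⟨W, j, hW, hj, hjT, hWj, hmin⟩ := exists_orbit (ρ := ρ) (Q := Q) hxQ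
    (pow_pos hp.pos n) fun W hW => by
      rw [hxn, map_one, Module.End.one_eq_id, Submodule.map_id]
      exact Linked.refl hW
  obtain ⟨a, han, rfl⟩ := (Nat.dvd_prime_pow hp).1 hjT
  -- the orbit spans
  set S := (Finset.range (p ^ a)).sup fun i => W.map (ρ (x ^ i)) with hS
  have hStop : S = ⊤ := by
    refine (hirr S (invt_orbit hW hxQ) (orbit_invariant hj hWj)).resolve_left fun h0 => hW.1 ?_
    rw [eq_bot_iff, ← h0]
    refine le_trans ?_ (Finset.le_sup (f := fun i => W.map (ρ (x ^ i))) (Finset.mem_range.2 hj))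
    rw [pow_zero, map_one, Module.End.one_eq_id, Submodule.map_id]
  haveI : Nontrivial W := Submodule.nontrivial_iff_ne_bot.2 hW.1
  have hlow : ∀ w ∈ W, w ≠ 0 → ((ρ x - 1) ^ (p ^ a - 1)) w ≠ 0 := by
    intro w hw hw0 h
    rw [sub_one_pow_pPow_sub_one, LinearMap.coe_sum, Finset.sum_apply] at h
    exact hw0 (eq_zero_of_sum_eq_zero hW hxQ hmin hj hw (by simpa [map_pow] using h))
  by_cases han' : a = n
  · subst han'
    left
    by_contra hlt
    obtain ⟨w, hw⟩ := exists_ne (0 : W)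
    apply hlow (w : V) w.2 (fun e => hw (Subtype.ext e))
    rw [pow_eq_zero_of_le (by omega) hr]
    rfl
  obtain ⟨m, rfl⟩ := Nat.exists_eq_add_of_le han
  have hm : 1 ≤ m := by omega
  set t := x ^ p ^ a with ht
  have htQ : t ∈ Subgroup.normalizer (Q : Set G) := pow_mem hxQ _
  have htm : t ^ p ^ m = 1 := by rw [ht, ← pow_mul, ← pow_add, hxn]
  have hy : x ^ p ^ (a + m - 1) = t ^ p ^ (m - 1) := by
    rw [ht, ← pow_mul, ← pow_add, Nat.add_sub_assoc hm]
  set y := x ^ p ^ (a + m - 1) with hydef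
  set σ := restrictRep hW.2.1 with hσ
  have hWt : ∀ w ∈ W, ρ t w ∈ W := fun w hw => hWj ▸ Submodule.mem_map_of_mem hw
  set A : Module.End K W := (ρ t).restrict hWt with hA
  have hAapp : ∀ w : W, (A w : V) = ρ t w := fun w => rfl
  set θ : MulAut Q := Subgroup.normalizerMonoidHom Q ⟨t, htQ⟩ with hθ
  have hθapp : ∀ (k : ℕ) (g : Q), ((θ ^ k) g : G) = t ^ k * g * (t ^ k)⁻¹ := fun k g => by
    rw [hθ, ← map_pow, Subgroup.normalizerMonoidHom_apply_apply_coe]
    rfl
  have hAσ : ∀ g, A * σ g = σ (θ g) * A := fun g => by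
    apply LinearMap.ext
    intro w
    apply Subtype.ext
    show ρ t (ρ g w) = ρ (θ g : G) (ρ t w)
    rw [← Module.End.mul_apply, ← Module.End.mul_apply, ← map_mul, ← map_mul]
    congr 2
    have := hθapp 1 g
    rw [pow_one, pow_one] at this
    rw [this]
    group
  have hApow : ∀ (k : ℕ) (w : W), ((A ^ k) w : V) = ρ (t ^ k) w := by
    intro k
    induction k with
    | zero => intro w; simp
    | succ k ih =>
      intro w
      rw [pow_succ, Module.End.mul_apply, ih, hAapp, ← Module.End.mul_apply, ← map_mul, ← pow_succ]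
  have hAN : A ^ p ^ m = 1 := by
    apply LinearMap.ext
    intro w
    apply Subtype.ext
    rw [hApow, htm, map_one]
    rfl
  have hθN : θ ^ p ^ m = 1 := by
    ext g
    rw [hθapp, htm]
    simp
  have hσsc : ∀ g : Q, (∀ h : Q, σ g * σ h = σ h * σ g) → ∃ c : K, σ g = c • 1 :=
    fun g hg => (isIrred_restrictRep hW).exists_scalar _ hg
  -- `y` acts nontrivially on `W`
  have hyW : ∃ g : Q, σ ((θ ^ p ^ (m - 1)) g) ≠ σ g := by
    by_contra hall
    push Not at hall
    obtain ⟨g, hg, hgne⟩ := hne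
    apply hgne
    apply LinearMap.ext
    intro v
    have hv : v ∈ S := hStop ▸ Submodule.mem_top
    have : S ≤ LinearMap.eqLocus (ρ (y * g * y⁻¹)) (ρ g) := by
      refine Finset.sup_le fun i _ => ?_
      rintro _ ⟨w, hw, rfl⟩
      have hg' : (x ^ i)⁻¹ * g * x ^ i ∈ Q := conj_mem' (pow_mem hxQ i) hg
      have h1 := congrArg Subtype.val (LinearMap.congr_fun (hall ⟨_, hg'⟩) ⟨w, hw⟩)
      rw [hσ, restrictRep_apply, restrictRep_apply, hθapp, ← hy] at h1
      have hc : y * x ^ i = x ^ i * y := by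
        rw [hydef]; exact (Commute.pow_pow_self x _ _).eq
      have h2 := congrArg (ρ (x ^ i)) h1
      rw [← Module.End.mul_apply, ← Module.End.mul_apply, ← map_mul, ← map_mul] at h2
      rw [LinearMap.mem_eqLocus, ← Module.End.mul_apply, ← Module.End.mul_apply, ← map_mul,
        ← map_mul]
      rw [show y * g * y⁻¹ * x ^ i = x ^ i * (y * ((x ^ i)⁻¹ * g * x ^ i) * y⁻¹) by
        rw [← mul_assoc (x ^ i), ← mul_assoc (x ^ i) y, ← hc]
        have hc' : y⁻¹ * x ^ i = x ^ i * y⁻¹ := (Commute.inv_left (hc : Commute y (x ^ i))).eq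
        simp only [mul_assoc, ← hc', mul_inv_cancel_left]]
      rw [show g * x ^ i = x ^ i * ((x ^ i)⁻¹ * g * x ^ i) by group]
      exact h2
    exact this hv
  obtain ⟨g₀, hg₀⟩ := hyW
  have hA1 : A ≠ 1 := by
    intro h1
    apply hg₀
    have := pow_mul_sigma hAσ (p ^ (m - 1)) g₀
    rwa [h1, one_pow, one_mul, mul_one, eq_comm] at this
  have hfree : ∀ g, (∀ c : K, σ g ≠ c • 1) → ∀ k, 0 < k → k < p ^ m → (θ ^ k) g ≠ g := by
    intro g hg k hk hkm hfix
    have hit : ∀ (k : ℕ) (g : Q), (θ ^ k) g = (⇑θ)^[k] g := by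
      intro k
      induction k with
      | zero => intro g; simp
      | succ k ih => intro g; rw [pow_succ, MulAut.mul_apply, ih, Function.iterate_succ_apply]
    have h1 : Function.IsPeriodicPt θ (p ^ m) g := by
      show (⇑θ)^[p ^ m] g = g
      rw [← hit]
      rw [hθN, MulAut.one_apply]
    have h2 : Function.IsPeriodicPt θ k g := by
      show (⇑θ)^[k] g = g
      rw [← hit]
      exact hfix
    have h3 := h1.gcd h2
    obtain ⟨b, hb, hgb⟩ := (Nat.dvd_prime_pow hp).1 (Nat.gcd_dvd_left (p ^ m) k)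
    have hbm : b ≠ m := by
      rintro rfl
      have := Nat.le_of_dvd hk (hgb ▸ Nat.gcd_dvd_right (p ^ b) k)
      omega
    rw [hgb] at h3
    have h4 : (θ ^ p ^ (m - 1)) g = g := by
      rw [hit]
      exact h3.trans_dvd (pow_dvd_pow p (by omega))
    obtain ⟨c, hc⟩ := hσsc g fun h => by
      rw [← map_mul, ← map_mul]
      congr 1
      apply Subtype.ext
      refine hcen g g.2 ?_ h h.2
      have := congrArg Subtype.val h4
      rwa [hθapp, ← hy] at this
    exact hg c hc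
  obtain ⟨hlo, hdim⟩ := critical (isIrred_restrictRep hW) hQne hAσ hAN hθN hA1 hfree
  have hexp : ∀ k, (A - 1) ^ k ≠ 0 → p ^ a * k + (p ^ a - 1) < r := by
    intro k hk
    by_contra hle
    push Not at hle
    obtain ⟨w, hw⟩ : ∃ w, ((A - 1) ^ k) w ≠ 0 := not_forall.1 fun h => hk (LinearMap.ext h)
    apply hlow _ (((A - 1) ^ k) w).2 fun e => hw (Subtype.ext e)
    have e : ∀ (i : ℕ) (w : W), (((A - 1) ^ i) w : V) = ((ρ x - 1) ^ (p ^ a * i)) (w : V) := by
      intro i
      induction i with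
      | zero => intro w; simp
      | succ i ih =>
        intro w
        rw [pow_succ, Module.End.mul_apply, ih, mul_add, mul_one, pow_add, Module.End.mul_apply]
        congr 1
        rw [sub_one_pow_pPow, ← map_pow]
        rfl
    rw [e, ← Module.End.mul_apply, ← pow_add, pow_eq_zero_of_le (by omega) hr]
    rfl
  by_cases htop : (A - 1) ^ (p ^ m - 1) = 0
  · right
    have hd := hdim htop
    obtain ⟨kQ, hkQ⟩ := hQ.exists_card_eq
    obtain ⟨b, hb⟩ := exists_finrank_eq_pow (K := K) kQ hkQ σ (isIrred_restrictRep hW)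
    have hnonscalar : ∃ g : Q, ∀ c : K, σ g ≠ c • 1 := by
      by_contra hall
      push Not at hall
      apply hg₀
      obtain ⟨c, hc⟩ := hall g₀
      have h1 := pow_mul_sigma hAσ (p ^ (m - 1)) g₀
      rw [hc, mul_smul_comm, mul_one] at h1
      have hAinv : A ^ p ^ (m - 1) * A ^ (p ^ m - p ^ (m - 1)) = 1 := by
        rw [← pow_add, Nat.add_sub_cancel' (Nat.pow_le_pow_right hp.pos (Nat.sub_le m 1)), hAN]
      have h2 := congrArg (fun f => f * A ^ (p ^ m - p ^ (m - 1))) h1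
      simp only [smul_mul_assoc, mul_assoc, hAinv, mul_one] at h2
      rw [← h2, hc]
    have hb1 : 1 ≤ b := by
      by_contra hb0
      obtain ⟨g, hg⟩ := hnonscalar
      obtain ⟨v, hv⟩ := exists_ne (0 : W)
      rw [show b = 0 by omega, pow_zero] at hb
      obtain ⟨c, hc⟩ := exists_smul_eq_of_finrank_eq_one hb hv (σ g v)
      refine hg c (LinearMap.ext fun w => ?_)
      obtain ⟨d, rfl⟩ := exists_smul_eq_of_finrank_eq_one hb hv w
      rw [map_smul, ← hc]
      simp only [LinearMap.smul_apply, Module.End.one_apply]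
      exact smul_comm _ _ _
    refine ⟨a, m, b, rfl, hm, hb1, hd ▸ hb, ?_, ?_⟩
    · have hp2 : 2 ≤ p ^ m := le_trans hp.two_le (Nat.le_self_pow (by omega) p)
      have hk : (A - 1) ^ (p ^ m - 2) ≠ 0 := fun h => by have := hlo _ h; omega
      have := hexp _ hk
      have e : p ^ a * (p ^ m - 1) = p ^ a * (p ^ m - 2) + p ^ a := by
        rw [show p ^ m - 1 = p ^ m - 2 + 1 by omega, mul_add, mul_one]
      omega
    · by_contra hcomm
      push Not at hcomm
      obtain ⟨g, hg⟩ := hnonscalar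
      obtain ⟨c, hc⟩ := hσsc g fun h => by
        rw [← map_mul, ← map_mul]
        congr 1
        exact Subtype.ext (hcomm g g.2 h h.2)
      exact hg c hc
  · left
    have := hexp _ htop
    have e : p ^ (a + m) = p ^ a * (p ^ m - 1) + p ^ a := by
      rw [pow_add]
      conv_lhs => rw [show p ^ m = p ^ m - 1 + 1 by
        have := Nat.one_le_pow m p hp.pos; omega]
      rw [mul_add, mul_one]
    omega

/-- Theorem B for `Q⟨x⟩`. -/
theorem bound {V : Type w} [AddCommGroup V] [Module K V] [FiniteDimensional K V]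
    (hpq : q ≠ p) (Q : Subgroup G) (hQ : IsPGroup q Q) (x : G)
    (hxQ : x ∈ Subgroup.normalizer (Q : Set G)) (hgen : Q ⊔ Subgroup.zpowers x = ⊤)
    {n : ℕ} (hn : 1 ≤ n) (hxn : x ^ p ^ n = 1)
    (hcen : ∀ g ∈ Q, x ^ p ^ (n - 1) * g * (x ^ p ^ (n - 1))⁻¹ = g → ∀ h ∈ Q, g * h = h * g)
    (ρ : G →* Module.End K V)
    (hne : ∃ g ∈ Q, ρ (x ^ p ^ (n - 1) * g * (x ^ p ^ (n - 1))⁻¹) ≠ ρ g)
    (r : ℕ) (hr : (ρ x - 1) ^ r = 0) : Bound p q n r Q := by
  suffices H : ∀ (d : ℕ) {V : Type w} [AddCommGroup V] [Module K V] [FiniteDimensional K V],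
      finrank K V = d → ∀ ρ : G →* Module.End K V,
      (∃ g ∈ Q, ρ (x ^ p ^ (n - 1) * g * (x ^ p ^ (n - 1))⁻¹) ≠ ρ g) →
      (ρ x - 1) ^ r = 0 → Bound p q n r Q from H _ rfl ρ hne hr
  intro d
  induction d using Nat.strong_induction_on with
  | _ d ih =>
  intro V _ _ _ hd ρ hne hr
  obtain ⟨g, hg, hgne⟩ := hne
  haveI : Nontrivial V := by
    by_contra h
    rw [not_nontrivial_iff_subsingleton] at h
    exact hgne (LinearMap.ext fun v => Subsingleton.elim _ _)
  by_cases hirr : ∀ W : Submodule K V, Invt ρ Q W → (∀ v ∈ W, ρ x v ∈ W) → W = ⊥ ∨ W = ⊤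
  · exact bound_of_irreducible hpq Q hQ x hxQ hn hxn hcen ρ hirr ⟨g, hg, hgne⟩ r hr
  push Not at hirr
  obtain ⟨W, hWQ, hWx, hW0, hW1⟩ := hirr
  -- `W` is invariant under the whole group
  let St : Submonoid G :=
    { carrier := {h | ∀ v ∈ W, ρ h v ∈ W}
      mul_mem' := fun {a b} ha hb v hv => by
        rw [map_mul]; exact ha _ (hb v hv)
      one_mem' := fun v hv => by rw [map_one]; exact hv }
  have hinv : ∀ h, ∀ v ∈ W, ρ h v ∈ W := by
    intro h
    have h1 : ((Q ⊔ Subgroup.zpowers x).toSubmonoid : Submonoid G) ≤ St := by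
      rw [Subgroup.sup_eq_closure, Subgroup.closure_toSubmonoid_of_finite, Submonoid.closure_le]
      rintro z (hz | hz)
      · exact hWQ z hz
      · obtain ⟨i, hi⟩ := (mem_powers_iff_mem_zpowers).2 hz
        rw [← show x ^ i = z from hi]
        exact Submonoid.pow_mem St hWx i
    rw [hgen] at h1
    exact h1 (Subgroup.mem_top h)
  let ρW : G →* Module.End K W :=
    { toFun := fun h => (ρ h).restrict (hinv h)
      map_one' := by ext w; simp [LinearMap.restrict_apply]
      map_mul' := fun a b => by ext w; simp [LinearMap.restrict_apply] }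
  let ρ₂ : G →* Module.End K (V ⧸ W) :=
    { toFun := fun h => W.mapQ W (ρ h) fun v hv => hinv h v hv
      map_one' := by ext v; simp
      map_mul' := fun a b => by ext v; simp }
  have hrW : (ρW x - 1) ^ r = 0 := by
    have e : ∀ (i : ℕ) (w : W), (((ρW x - 1) ^ i) w : V) = ((ρ x - 1) ^ i) (w : V) := by
      intro i
      induction i with
      | zero => intro w; simp
      | succ i ih' =>
        intro w
        rw [pow_succ, Module.End.mul_apply, ih', pow_succ (ρ x - 1), Module.End.mul_apply]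
        rfl
    apply LinearMap.ext
    intro w
    apply Subtype.ext
    rw [e, hr]
    rfl
  have hr₂ : (ρ₂ x - 1) ^ r = 0 := by
    have e : ∀ (i : ℕ) (v : V), ((ρ₂ x - 1) ^ i) (Submodule.Quotient.mk v) =
        Submodule.Quotient.mk (((ρ x - 1) ^ i) v) := by
      intro i
      induction i with
      | zero => intro v; simp
      | succ i ih' =>
        intro v
        rw [pow_succ, Module.End.mul_apply, pow_succ (ρ x - 1), Module.End.mul_apply, ← ih']
        rfl
    apply Submodule.linearMap_qext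
    ext v
    show ((ρ₂ x - 1) ^ r) (Submodule.Quotient.mk v) = 0
    rw [e, hr]
    simp
  set y := x ^ p ^ (n - 1) with hy
  by_cases h1 : ∃ g ∈ Q, ρW (y * g * y⁻¹) ≠ ρW g
  · exact ih _ (hd ▸ Submodule.finrank_lt hW1) rfl ρW h1 hrW
  by_cases h2 : ∃ g ∈ Q, ρ₂ (y * g * y⁻¹) ≠ ρ₂ g
  · refine ih _ ?_ rfl ρ₂ h2 hr₂
    have := Submodule.finrank_quotient_add_finrank W
    have := Submodule.one_le_finrank_iff.2 hW0
    omega
  exfalso
  push Not at h1 h2
  set c := y * g * y⁻¹ * g⁻¹ with hc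
  have hcQ : c ∈ Q := mul_mem (conj_mem (pow_mem hxQ _) hg) (inv_mem hg)
  have hcW : ρW c = 1 := by
    rw [hc, map_mul, h1 g hg, ← map_mul, mul_inv_cancel, map_one]
  have hc₂ : ρ₂ c = 1 := by
    rw [hc, map_mul, h2 g hg, ← map_mul, mul_inv_cancel, map_one]
  have hsq : (ρ c - 1) * (ρ c - 1) = 0 := by
    apply LinearMap.ext
    intro v
    have hv : (ρ c - 1) v ∈ W := by
      have := LinearMap.congr_fun hc₂ (Submodule.Quotient.mk v)
      exact (Submodule.Quotient.eq W).1 this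
    have := congrArg Subtype.val (LinearMap.congr_fun hcW ⟨_, hv⟩)
    show ρ c ((ρ c - 1) v) - (ρ c - 1) v = 0
    rw [sub_eq_zero]
    exact this
  obtain ⟨k, hk⟩ := hQ ⟨c, hcQ⟩
  have hN : ((q ^ k : ℕ) : K) ≠ 0 := by
    rw [Nat.cast_pow]
    refine pow_ne_zero _ fun h => hpq ?_
    exact ((Nat.prime_dvd_prime_iff_eq (Fact.out : p.Prime) Fact.out).1
      ((CharP.cast_eq_zero_iff K p q).1 h)).symm
  have hpw : ρ c ^ q ^ k = 1 := by
    rw [← map_pow, show c ^ q ^ k = 1 from congrArg Subtype.val hk, map_one]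
  have hone := eq_one_of_unipotent _ hN hpw hsq
  apply hgne
  rw [show y * g * y⁻¹ = c * g by rw [hc, inv_mul_cancel_right], map_mul, hone, one_mul]

end Cfsg.Agent.Lib.HallHigmanB
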