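import Cfsg.Agent.Lib.Involves.Basic
import Mathlib

/-!
# A section `C_p ≀ C_p` from a free cyclic module
-/

set_option autoImplicit false

namespace Cfsg.Agent.Lib.HallHigmanB

open Subgroup
open scoped IsMulCommutative

variable {p : ℕ} [hp : Fact p.Prime] {G : Type*} [Group G] [Finite G]

/-- Products of powers of the conjugates. -/
theorem exists_wreath_section {E S : Subgroup G} [E.Normal] (hEc : ∀ a ∈ E, ∀ b ∈ E, a * b = b * a)
    (hEp : ∀ a ∈ E, a ^ p = 1) (hES : E ≤ S) {g e : G} (hgS : g ∈ S) (hgE : g ∉ E)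
    (hgp : g ^ p ∈ E) (he : e ∈ E) (hne : (e * g) ^ p ≠ g ^ p)
    (hind : ∀ c : Fin p → ℕ,
        (List.ofFn fun i : Fin p => (g ^ (i : ℕ) * e * (g ^ (i : ℕ))⁻¹) ^ c i).prod = 1 →
          ∀ i, p ∣ c i) :
    ∃ (W : Type) (_ : Group W) (_ : Finite W), (∃ (B : Subgroup W) (t : W), B.Normal ∧ IsMulCommutative B ∧
      (∀ b ∈ B, b ^ p = 1) ∧ Nat.card B = p ^ p ∧ orderOf t = p ∧ t ∉ B ∧ Nat.card W = p ^ (p + 1) ∧
      Nat.card ↥(B ⊓ centralizer ({t} : Set W)) = p) ∧ Cfsg.Involves W S := by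
  classical
  have hp' := hp.out
  haveI : IsMulCommutative E := ⟨⟨fun a b => Subtype.ext (hEc a a.2 b b.2)⟩⟩
  haveI : NeZero p := ⟨hp'.ne_zero⟩
  set φ : MulAut E := MulAut.conjNormal g with hφ
  set c : Fin p → E := fun i => MulAut.conjNormal (g ^ (i : ℕ)) ⟨e, he⟩ with hc
  have hEp' : ∀ a : E, a ^ p = 1 := fun a => Subtype.ext (hEp a a.2)
  have hgpfix : ∀ a : E, MulAut.conjNormal (g ^ p) a = a := fun a => Subtype.ext (by
    rw [MulAut.conjNormal_apply, hEc _ hgp _ a.2, mul_inv_cancel_right])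
  have hmod : ∀ (a : E) (k : ℕ), a ^ k = a ^ (k % p) := fun a k => by
    conv_lhs => rw [← Nat.mod_add_div k p, pow_add, pow_mul, hEp', one_pow, mul_one]
  set ψ : (Fin p → ℕ) → E := fun k => ∏ i, c i ^ k i with hψ
  have hψ0 : ∀ k, ψ k = 1 → ∀ i, p ∣ k i := fun k hk => hind k (by
    have := congrArg Subtype.val hk
    rw [hψ] at this
    simp only at this
    rw [← List.prod_ofFn, SubmonoidClass.coe_list_prod, List.map_ofFn, OneMemClass.coe_one] at this
    rw [← this]
    congr 1)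
  have hψadd : ∀ k l, ψ (k + l) = ψ k * ψ l := fun k l => by
    simp only [hψ, Pi.add_apply, pow_add, Finset.prod_mul_distrib]
  have hshift : ∀ i : Fin p, φ (c i) = c (i + 1) := by
    intro i
    have hstep : φ (c i) = MulAut.conjNormal (g ^ ((i : ℕ) + 1)) ⟨e, he⟩ := by
      rw [hφ, hc, pow_succ', map_mul]
      rfl
    rw [hstep]
    by_cases hi : (i : ℕ) + 1 < p
    · simp only [hc]
      rw [Fin.val_add, Fin.val_one', Nat.add_mod_mod, Nat.mod_eq_of_lt hi]
    · have hi' : (i : ℕ) + 1 = p := by have := i.2; omega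
      rw [hi', hgpfix]
      simp only [hc]
      rw [Fin.val_add, Fin.val_one', Nat.add_mod_mod, hi', Nat.mod_self, pow_zero, map_one]
      rfl
  have hφψ : ∀ k, φ (ψ k) = ψ (fun i => k (i - 1)) := fun k => by
    simp only [hψ, map_prod, map_pow, hshift]
    exact Fintype.prod_equiv (Equiv.addRight (1 : Fin p)) _ _ fun i => by simp
  -- the free module
  let Mset : Submonoid E :=
    { carrier := Set.range ψ
      mul_mem' := fun {a b} ⟨k, hk⟩ ⟨l, hl⟩ => ⟨k + l, by rw [hψadd, hk, hl]⟩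
      one_mem' := ⟨0, by simp [hψ]⟩ }
  let B₁ : Subgroup E :=
    { Mset with
      inv_mem' := fun {a} ha => by
        have h : a⁻¹ = a ^ (p - 1) := by
          rw [inv_eq_iff_mul_eq_one, ← pow_succ', Nat.sub_add_cancel hp'.one_le, hEp']
        show a⁻¹ ∈ Mset
        rw [h]
        exact pow_mem (show a ∈ Mset from ha) _ }
  have hB₁ : ∀ a : E, a ∈ B₁ ↔ ∃ k, ψ k = a := fun a => Iff.rfl
  have hcard : Nat.card B₁ = p ^ p := by
    let θ : (Fin p → Fin p) → B₁ := fun k => ⟨ψ (fun i => (k i : ℕ)), _, rfl⟩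
    have hθ : Function.Bijective θ := by
      refine ⟨fun k l hkl => funext fun i => ?_, fun ⟨a, ha⟩ => ?_⟩
      · have h1 : ψ (fun i => (k i : ℕ)) = ψ (fun i => (l i : ℕ)) := congrArg Subtype.val hkl
        have h2 : ψ ((fun i => (k i : ℕ)) + fun i => p - (l i : ℕ)) = 1 := by
          rw [hψadd, h1, ← hψadd]
          simp only [hψ, Pi.add_apply]
          refine Finset.prod_eq_one fun j _ => ?_
          rw [Nat.add_sub_cancel' (l j).2.le, hEp']
        have h3 := hψ0 _ h2 i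
        simp only [Pi.add_apply] at h3
        have := (k i).2
        have := (l i).2
        obtain ⟨d, hd⟩ := h3
        apply Fin.ext
        rcases d with _ | _ | d
        · omega
        · omega
        · rw [Nat.mul_add, Nat.mul_one] at hd
          have : p ≤ p * (d + 1) := Nat.le_mul_of_pos_right p (Nat.succ_pos d)
          omega
      · obtain ⟨k, rfl⟩ := ha
        refine ⟨fun i => ⟨k i % p, Nat.mod_lt _ hp'.pos⟩, Subtype.ext ?_⟩
        show ψ (fun i => k i % p) = ψ k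
        exact Finset.prod_congr rfl fun i _ => (hmod _ _).symm
    rw [← Nat.card_eq_of_bijective θ hθ, Nat.card_fun, Nat.card_fin]
  -- fixed elements of the module are powers of the product of all conjugates
  set N₀ : E := ψ (fun _ => 1) with hN₀
  have hfixed : ∀ k, φ (ψ k) = ψ k → ψ k = N₀ ^ k 0 := by
    intro k hk
    rw [hφψ] at hk
    have hstep : ∀ i, (k (i - 1) + (p - k i % p)) % p = 0 := fun i => by
      refine Nat.mod_eq_zero_of_dvd (hψ0 (fun i => k (i - 1) + (p - k i % p)) ?_ i)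
      show ψ ((fun i => k (i - 1)) + fun i => p - k i % p) = 1
      rw [hψadd, hk, ← hψadd]
      simp only [hψ, Pi.add_apply]
      refine Finset.prod_eq_one fun j _ => ?_
      rw [pow_add, hmod _ (k j), ← pow_add, Nat.add_sub_cancel' (Nat.mod_lt _ hp'.pos).le, hEp']
    have hconst : ∀ j : ℕ, ∀ h : j < p, k ⟨j, h⟩ % p = k 0 % p := by
      intro j
      induction j with
      | zero => intro h; rfl
      | succ j ih =>
        intro h
        have h1 := hstep ⟨j + 1, h⟩
        have hsub : (⟨j + 1, h⟩ : Fin p) - 1 = ⟨j, by omega⟩ := by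
          rw [sub_eq_iff_eq_add]
          apply Fin.ext
          rw [Fin.val_add, Fin.val_one', Nat.add_mod_mod, Nat.mod_eq_of_lt h]
        rw [hsub, Nat.add_mod, ih (by omega)] at h1
        have ha := Nat.mod_lt (k 0) hp'.pos
        have hb := Nat.mod_lt (k ⟨j + 1, h⟩) hp'.pos
        generalize k 0 % p = a at *
        generalize k ⟨j + 1, h⟩ % p = b at *
        by_cases hb0 : b = 0
        · subst hb0
          rw [Nat.sub_zero, Nat.mod_self, add_zero, Nat.mod_eq_of_lt ha] at h1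
          omega
        · rw [Nat.mod_eq_of_lt (show p - b < p by omega)] at h1
          obtain ⟨d, hd⟩ := Nat.dvd_of_mod_eq_zero h1
          rcases d with _ | _ | d
          · omega
          · omega
          · rw [Nat.mul_add, Nat.mul_one] at hd
            have : p ≤ p * (d + 1) := Nat.le_mul_of_pos_right p (Nat.succ_pos d)
            omega
    calc ψ k = ψ (fun _ => k 0) := Finset.prod_congr rfl fun i _ => by
          rw [hmod _ (k i), hconst i i.2, ← hmod]
      _ = N₀ ^ k 0 := by simp only [hN₀, hψ, pow_one, Finset.prod_pow]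
  have hpow : ∀ (a : E) (x : G) (n : ℕ), ((a : G) * x) ^ n =
      ((∏ i ∈ Finset.range n, MulAut.conjNormal (x ^ i) a : E) : G) * x ^ n := by
    intro a x n
    induction n with
    | zero => simp
    | succ n ih =>
      rw [pow_succ, ih, Finset.prod_range_succ, coe_mul, MulAut.conjNormal_apply, pow_succ]
      group
  have hN₀eq : (∏ i ∈ Finset.range p, MulAut.conjNormal (g ^ i) (⟨e, he⟩ : E)) = N₀ := by
    rw [hN₀, hψ, ← Fin.prod_univ_eq_prod_range (fun i => MulAut.conjNormal (g ^ i) (⟨e, he⟩ : E))]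
    simp [hc]
  have hN₀1 : N₀ ≠ 1 := fun h => hne (by
    rw [hpow ⟨e, he⟩, hN₀eq, h, OneMemClass.coe_one, one_mul])
  have hN₀o : orderOf N₀ = p := orderOf_eq_prime (hEp' _) hN₀1
  -- adjust `g` so that its `p`-th power meets the module trivially
  obtain ⟨g', hg'S, hg'E, hg'p, hg'φ, hg'B⟩ : ∃ g' ∈ S, g' ∉ E ∧ g' ^ p ∈ E ∧
      (∀ a : E, MulAut.conjNormal g' a = φ a) ∧
      ∀ j : ℕ, (g' ^ p) ^ j ∈ B₁.map E.subtype → (g' ^ p) ^ j = 1 := by
    by_cases hw : (⟨g ^ p, hgp⟩ : E) ∈ B₁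
    · obtain ⟨k, hk⟩ := hw
      have hkfix : φ (ψ k) = ψ k := by
        rw [hk, hφ]
        exact Subtype.ext (by rw [MulAut.conjNormal_apply]; group)
      have hk' := hfixed k hkfix
      set a : E := (⟨e, he⟩ : E) ^ (p * k 0 - k 0) with ha
      refine ⟨(a : G) * g, mul_mem (hES a.2) hgS, fun h => hgE ?_, ?_, ?_, ?_⟩
      · simpa using mul_mem (inv_mem a.2) h
      · rw [hpow]
        exact mul_mem (SetLike.coe_mem _) hgp
      · intro b
        apply Subtype.ext
        rw [MulAut.conjNormal_apply, hφ, MulAut.conjNormal_apply, mul_inv_rev,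
          show (a : G) * g * b * (g⁻¹ * (a : G)⁻¹) = (a : G) * (g * b * g⁻¹) * (a : G)⁻¹ by group,
          hEc a a.2 _ ((inferInstance : E.Normal).conj_mem _ b.2 g), mul_inv_cancel_right]
      · intro j _
        have h1 : ((a : G) * g) ^ p = 1 := by
          rw [hpow]
          have h2 : (∏ i ∈ Finset.range p, MulAut.conjNormal (g ^ i) a : E) = N₀ ^ (p * k 0 - k 0) := by
            simp only [ha, map_pow, Finset.prod_pow]
            rw [← hN₀eq]
            simp only [map_pow]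
          rw [h2]
          have h3 : ((⟨g ^ p, hgp⟩ : E)) = N₀ ^ k 0 := hk ▸ hk'
          rw [show g ^ p = ((N₀ ^ k 0 : E) : G) from congrArg Subtype.val h3, ← coe_mul, ← pow_add,
            Nat.sub_add_cancel (Nat.le_mul_of_pos_left _ hp'.pos), pow_mul, hEp', one_pow,
            OneMemClass.coe_one]
        rw [h1, one_pow]
    · refine ⟨g, hgS, hgE, hgp, fun a => rfl, fun j hj => ?_⟩
      by_contra hne1
      apply hw
      obtain ⟨b, hb, hbe⟩ := hj
      have hj0 : ¬ p ∣ j := fun ⟨d, hd⟩ => hne1 (by rw [hd, pow_mul, hEp _ hgp, one_pow])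
      obtain ⟨i, hi⟩ := Nat.exists_mul_mod_eq_one_of_coprime
        ((hp'.coprime_iff_not_dvd.2 hj0).symm) hp'.one_lt
      have : (⟨g ^ p, hgp⟩ : E) = b ^ i := by
        apply Subtype.ext
        show g ^ p = (b : G) ^ i
        rw [show (b : G) = (g ^ p) ^ j from hbe, ← pow_mul]
        have h := congrArg Subtype.val (hmod (⟨g ^ p, hgp⟩ : E) (j * i))
        simp only [SubgroupClass.coe_pow] at h
        rw [h, hi.2, pow_one]
      rw [this]
      exact pow_mem hb i
  set B₀ := B₁.map E.subtype with hB₀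
  set K := B₀ ⊔ zpowers g' with hK
  have hB₀E : B₀ ≤ E := map_subtype_le _
  have hKS : K ≤ S := sup_le (hB₀E.trans hES) (zpowers_le.2 hg'S)
  have hgK : g' ∈ K := mem_sup_right (mem_zpowers g')
  have hgB : g' ∈ normalizer (B₀ : Set G) := by
    refine mem_normalizer_fintype (fun x hx => ?_)
    obtain ⟨a, ⟨k, rfl⟩, rfl⟩ := hx
    exact ⟨φ (ψ k), ⟨_, (hφψ k).symm⟩, by rw [← hg'φ]; exact MulAut.conjNormal_apply g' _⟩
  have hBK : K ≤ normalizer (B₀ : Set G) := sup_le le_normalizer (zpowers_le.2 hgB)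
  set w := g' ^ p with hw
  have hwcomm : ∀ x ∈ K, x * w = w * x := by
    intro x hx
    have h1 : K ≤ centralizer ({w} : Set G) := by
      refine sup_le (fun b hb => mem_centralizer_singleton_iff.2 (hEc b (hB₀E hb) w hg'p))
        (zpowers_le.2 (mem_centralizer_singleton_iff.2 ?_))
      rw [hw]
      exact (Commute.self_pow g' p).eq
    exact mem_centralizer_singleton_iff.1 (h1 hx)
  have hwK : w ∈ K := pow_mem hgK p
  set L : Subgroup K := zpowers ⟨w, hwK⟩ with hL
  haveI : L.Normal := ⟨fun l hl x => by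
    obtain ⟨i, rfl⟩ := mem_zpowers_iff.1 hl
    have hcm : Commute x (⟨w, hwK⟩ : K) := Subtype.ext (hwcomm x x.2)
    rw [(hcm.zpow_right i).eq, mul_inv_cancel_right]
    exact zpow_mem (mem_zpowers _) i⟩
  have hLE : ∀ l : K, l ∈ L → (l : G) ∈ E ∧ ((l : G) ∈ B₀ → l = 1) := by
    intro l hl
    obtain ⟨j, hj⟩ := (mem_powers_iff_mem_zpowers (x := (⟨w, hwK⟩ : K))).2 hl
    have hj' : w ^ j = (l : G) := by rw [← hj]; rfl
    refine ⟨hj' ▸ pow_mem hg'p j, fun hlB => Subtype.ext ?_⟩
    rw [← hj'] at hlB ⊢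
    exact hg'B j hlB
  -- the section
  let Wq := Shrink.{0} (K ⧸ L)
  let q : K →* Wq := (Shrink.mulEquiv.{0} (α := K ⧸ L)).symm.toMonoidHom.comp (QuotientGroup.mk' L)
  have hq : Function.Surjective q :=
    (Shrink.mulEquiv.{0} (α := K ⧸ L)).symm.surjective.comp (QuotientGroup.mk'_surjective L)
  have hqker : ∀ x, q x = 1 ↔ x ∈ L := fun x => by
    simp [q, QuotientGroup.eq_one_iff]
  refine ⟨Wq, inferInstance, inferInstance, ?_, ?_⟩
  swap
  · exact Lib.Involves.of_injective (inclusion hKS) (inclusion_injective hKS)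
      (Lib.Involves.of_quotient q hq ⟨⊤, ⊥, inferInstance, ⟨(QuotientGroup.quotientMulEquivOfEq
        (show (⊥ : Subgroup Wq).subgroupOf ⊤ = ⊥ from bot_subgroupOf ⊤)).trans
          (QuotientGroup.quotientBot.trans Subgroup.topEquiv)⟩⟩)
  set B : Subgroup Wq := (B₀.subgroupOf K).map q with hB
  set t : Wq := q ⟨g', hgK⟩ with ht
  have hB₀K : B₀ ≤ K := le_sup_left
  haveI hBn : B.Normal := by
    haveI : (B₀.subgroupOf K).Normal := normal_subgroupOf_of_le_normalizer hBK
    exact Normal.map inferInstance q hq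
  have hBcard : Nat.card B = p ^ p := by
    rw [← hcard, ← card_map_of_injective E.subtype_injective (K := B₁), ← hB₀,
      ← Nat.card_congr (subgroupOfEquivOfLe hB₀K).toEquiv]
    refine (Nat.card_congr (Equiv.ofBijective
      (fun x : B₀.subgroupOf K => (⟨q x, mem_map_of_mem q x.2⟩ : B)) ⟨?_, ?_⟩)).symm
    · intro x y hxy
      have h1 : q ((x : K) * (y : K)⁻¹) = 1 := by
        rw [map_mul, map_inv, show q x = q y from congrArg Subtype.val hxy, mul_inv_cancel]
      have h2 := (hLE _ ((hqker _).1 h1)).2 (by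
        rw [coe_mul, coe_inv]
        exact mul_mem (mem_subgroupOf.1 x.2) (inv_mem (mem_subgroupOf.1 y.2)))
      exact Subtype.ext (mul_inv_eq_one.1 h2)
    · rintro ⟨_, x, hx, rfl⟩
      exact ⟨⟨x, hx⟩, rfl⟩
  have hto : orderOf t = p := by
    refine orderOf_eq_prime ?_ fun h => hg'E ?_
    · rw [ht, ← map_pow, hqker]
      exact mem_zpowers _
    · exact (hLE _ ((hqker _).1 h)).1
  have htB : t ∉ B := by
    rintro ⟨b, hb, hbt⟩
    apply hg'E
    have h1 : q (b⁻¹ * ⟨g', hgK⟩) = 1 := by rw [map_mul, map_inv, hbt, ← ht, inv_mul_cancel]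
    have h2 := mul_mem (hB₀E (mem_subgroupOf.1 hb)) (hLE _ ((hqker _).1 h1)).1
    simpa using h2
  have htop : B ⊔ zpowers t = ⊤ := by
    rw [hB, ht, ← MonoidHom.map_zpowers, ← Subgroup.map_sup]
    have h0 : B₀.subgroupOf K ⊔ zpowers (⟨g', hgK⟩ : K) = ⊤ := by
      apply map_injective K.subtype_injective
      rw [Subgroup.map_sup, map_subgroupOf_eq_of_le hB₀K, MonoidHom.map_zpowers,
        ← MonoidHom.range_eq_map, range_subtype]
      rfl
    rw [h0, map_top_of_surjective q hq]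
  have hWcard : Nat.card Wq = p ^ (p + 1) := by
    have hcompl : IsComplement' B (zpowers t) := by
      refine isComplement'_of_disjoint_and_mul_eq_univ ?_ ?_
      · rw [disjoint_iff, eq_bot_iff]
        rintro x ⟨hxB, hxt⟩
        rw [mem_bot]
        by_contra hx1
        apply htB
        have hpr : (Nat.card (zpowers t)).Prime := by rw [Nat.card_zpowers, hto]; exact hp'
        haveI := Fact.mk hpr
        have h3 : zpowers t ≤ B := by
          have h4 : (B.subgroupOf (zpowers t)) = ⊤ := by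
            refine (eq_bot_or_eq_top_of_prime_card _).resolve_left fun h => hx1 ?_
            have : (⟨x, hxt⟩ : zpowers t) ∈ B.subgroupOf (zpowers t) := hxB
            rw [h, mem_bot] at this
            exact congrArg Subtype.val this
          exact subgroupOf_eq_top.1 h4
        exact h3 (mem_zpowers t)
      · rw [← normal_mul, htop]; rfl
    rw [← hcompl.card_mul_card, hBcard, Nat.card_zpowers, hto, pow_succ]
  have hBcomm : IsMulCommutative B := ⟨⟨fun ⟨a, ha⟩ ⟨b, hb⟩ => Subtype.ext (by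
    obtain ⟨x, hx, rfl⟩ := ha
    obtain ⟨y, hy, rfl⟩ := hb
    show q x * q y = q y * q x
    rw [← map_mul, ← map_mul]
    exact congrArg q (Subtype.ext (hEc _ (hB₀E (mem_subgroupOf.1 hx)) _ (hB₀E (mem_subgroupOf.1 hy)))))⟩⟩
  refine ⟨B, t, hBn, hBcomm, ?_, hBcard, hto, htB, hWcard, ?_⟩
  · rintro _ ⟨x, hx, rfl⟩
    rw [← map_pow, show x ^ p = 1 from Subtype.ext (hEp _ (hB₀E (mem_subgroupOf.1 hx))), map_one]
  -- the centraliser
  have hN₀B : (N₀ : G) ∈ B₀ := mem_map_of_mem E.subtype ⟨_, rfl⟩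
  have hN₀fix : φ N₀ = N₀ := by rw [hN₀, hφψ]
  have hfix2 : ∀ x : K, (x : G) ∈ B₀ → (q x * t = t * q x ↔ ∃ j, (x : G) = (N₀ : G) ^ j) := by
    intro x hx
    obtain ⟨a, ⟨k, rfl⟩, hax⟩ := hx
    have hax' : ((ψ k : E) : G) = x := hax
    constructor
    · intro hcm
      have h1 : q (⟨g', hgK⟩ * x * (⟨g', hgK⟩)⁻¹ * x⁻¹) = 1 := by
        simp only [map_mul, map_inv]
        rw [← ht, ← hcm, mul_inv_cancel_right, mul_inv_cancel]
      have hmemB : (g' * (x : G) * g'⁻¹ * (x : G)⁻¹) ∈ B₀ := by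
        refine mul_mem ((mem_normalizer_iff.1 hgB _).1 ?_) (inv_mem ?_) <;>
          exact ⟨ψ k, ⟨k, rfl⟩, hax⟩
      have h2 := (hLE _ ((hqker _).1 h1)).2 hmemB
      have h3 : φ (ψ k) = ψ k := by
        apply Subtype.ext
        rw [← hg'φ, MulAut.conjNormal_apply, hax']
        exact mul_inv_eq_one.1 (congrArg Subtype.val h2)
      exact ⟨k 0, by rw [← hax', hfixed k h3]; rfl⟩
    · rintro ⟨j, hj⟩
      have h2 : g' * (x : G) * g'⁻¹ = x := by
        have h4 : φ (N₀ ^ j) = N₀ ^ j := by rw [map_pow, hN₀fix]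
        have h5 := congrArg Subtype.val h4
        rw [← hg'φ, MulAut.conjNormal_apply, SubgroupClass.coe_pow, ← hj] at h5
        exact h5
      rw [ht, ← map_mul, ← map_mul]
      exact congrArg q (Subtype.ext (mul_inv_eq_iff_eq_mul.1 h2).symm)
  have hN₀K : (N₀ : G) ∈ K := hB₀K hN₀B
  have hset : B ⊓ centralizer ({t} : Set Wq) = zpowers (q ⟨N₀, hN₀K⟩) := by
    apply le_antisymm
    · rintro z ⟨⟨x, hx, rfl⟩, hz⟩
      obtain ⟨j, hj⟩ := (hfix2 x (mem_subgroupOf.1 hx)).1 (mem_centralizer_singleton_iff.1 hz)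
      rw [show x = (⟨N₀, hN₀K⟩ : K) ^ j from Subtype.ext hj, map_pow]
      exact pow_mem (mem_zpowers _) j
    · rw [zpowers_le]
      refine ⟨mem_map_of_mem q (mem_subgroupOf.2 hN₀B), mem_centralizer_singleton_iff.2 ?_⟩
      exact (hfix2 ⟨N₀, hN₀K⟩ hN₀B).2 ⟨1, (pow_one _).symm⟩
  rw [hset, Nat.card_zpowers]
  refine orderOf_eq_prime ?_ fun h => hN₀1 ?_
  · rw [← map_pow, show (⟨(N₀ : G), hN₀K⟩ : K) ^ p = 1 from Subtype.ext (hEp _ N₀.2), map_one]
  · exact Subtype.ext (congrArg Subtype.val ((hLE _ ((hqker _).1 h)).2 hN₀B) :)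

end Cfsg.Agent.Lib.HallHigmanB
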